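import Groth.Agent.EtaleDeep.Cons.ARSystems
import Groth.Agent.EtaleDeep.Cons.AbSpec

/-!
# Systems of sheaves adic up to translation are detected on stalks with uniform bounds
-/

set_option autoImplicit false
set_option backward.isDefEq.respectTransparency.types false
set_option linter.style.haveILetI false

universe u

open CategoryTheory CategoryTheory.Limits AlgebraicGeometry Opposite

namespace Groth.EtaleSGA5.ARLocal

open Groth.EtaleBase Groth.EtaleDeep Groth.EtaleDeep.Cons

section maps

variable {C : Type*} [Category C] [Abelian C] {D : Type*} [Category D] [Abelian D]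
  (L : C ⥤ D) [L.Additive]

theorem kerNull_map [PreservesFiniteLimits L] {X Y : ARSys.PS C} {u : X ⟶ Y} {r : ℕ}
    (hk : AR.KerNull u r) : AR.KerNull (Functor.whiskerRight u L) r := fun n m h hle W k hk0 => by
  let e := PreservesKernel.iso L (u.app (op m))
  have h0 : k = (kernel.lift (L.map (u.app (op m))) k hk0 ≫ e.inv) ≫ L.map (kernel.ι (u.app (op m))) := by
    rw [Category.assoc, PreservesKernel.iso_inv_ι, kernel.lift_ι]
  rw [h0, Category.assoc]
  change _ ≫ L.map (kernel.ι (u.app (op m))) ≫ L.map (ARSys.tr X h) = 0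
  rw [← L.map_comp, hk h hle _ (kernel.condition _), L.map_zero, comp_zero]

theorem cokNull_map [PreservesFiniteColimits L] {X Y : ARSys.PS C} {u : X ⟶ Y} {r : ℕ}
    (hc : AR.CokNull u r) : AR.CokNull (Functor.whiskerRight u L) r := fun n m h hle W p hp0 => by
  let e := PreservesCokernel.iso L (u.app (op n))
  have h0 : p = L.map (cokernel.π (u.app (op n))) ≫ e.hom ≫ cokernel.desc (L.map (u.app (op n))) p hp0 := by
    rw [← Category.assoc, PreservesCokernel.π_iso_hom, cokernel.π_desc]
  rw [h0, ← Category.assoc]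
  change (L.map (ARSys.tr Y h) ≫ L.map (cokernel.π (u.app (op n)))) ≫ _ = 0
  rw [← L.map_comp, hc h hle _ (cokernel.condition _), L.map_zero, zero_comp]

end maps

variable {Λ : Type (u + 1)} [CommRing Λ] {X : Scheme.{u}}

/-- Morphisms vanish when they vanish at one geometric point over every point. -/
theorem eq_zero_of_stalks {F G : EtModW.Mod Λ X} (g : F ⟶ G) {Ω : X → Type u} [∀ x, Field (Ω x)]
    [∀ x, IsSepClosed (Ω x)] (ξ : ∀ x, Spec (CommRingCat.of (Ω x)) ⟶ X)
    (hξ : ∀ x, (ξ x).base default = x)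
    (h : ∀ x, (EtModW.stalk Λ (ξ x)).map g = 0) : g = 0 := by
  refine eq_zero_of_stalk g fun x => ?_
  obtain ⟨θ⟩ := nonempty_pointHom (ξ x) (geomPoint x)
    (specializes_of_eq ((hξ x).trans (geomPoint_apply _ _).symm))
  obtain ⟨e, he⟩ := exists_stalk_forget (geomPoint x) F
  obtain ⟨e', he'⟩ := exists_stalk_forget (geomPoint x) G
  obtain ⟨f, hf⟩ := exists_stalk_forget (ξ x) F
  obtain ⟨f', hf'⟩ := exists_stalk_forget (ξ x) G
  refine ModuleCat.hom_ext (LinearMap.ext fun a => ?_)
  obtain ⟨U, t, σ, hσ⟩ := germ_surjective (geomPoint x) ((toAb Λ X).obj F) (e.inv a)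
  have ha : (germM (geomPoint x) F U t).hom σ = a := by
    rw [← he]; exact (congrArg e.hom hσ).trans (by simp)
  subst ha
  have hnat : ((EtModW.stalk Λ (geomPoint x)).map g).hom ((germM (geomPoint x) F U t).hom σ) =
      (germM (geomPoint x) G U t).hom ((g.hom.app (op U)).hom σ) :=
    ConcreteCategory.congr_hom
      ((Scheme.pointSmallEtale (geomPoint x)).toPresheafFiber_naturality g.hom U t) σ
  refine hnat.trans ?_
  have h0 : germ (ξ x) ((toAb Λ X).obj G) U (θ.hom.app U t) ((g.hom.app (op U)).hom σ) = 0 := by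
    have h1 : (germM (ξ x) G U (θ.hom.app U t)).hom ((g.hom.app (op U)).hom σ) = 0 := by
      refine (ConcreteCategory.congr_hom
        ((Scheme.pointSmallEtale (ξ x)).toPresheafFiber_naturality g.hom U (θ.hom.app U t)) σ).symm.trans ?_
      exact ConcreteCategory.congr_hom (h x) _
    have h2 : f'.hom (germ (ξ x) ((toAb Λ X).obj G) U (θ.hom.app U t) ((g.hom.app (op U)).hom σ)) = 0 :=
      (hf' U _ _).trans h1
    exact ((ConcreteCategory.isIso_iff_bijective f'.hom).1 inferInstance).1 (h2.trans (map_zero _).symm)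
  rw [← he']
  have h3 : germ (geomPoint x) ((toAb Λ X).obj G) U t ((g.hom.app (op U)).hom σ) = 0 := by
    refine injective_sheafFiber_of_same_point θ ((hξ x).trans (geomPoint_apply _ _).symm) _ ?_
    rw [sheafFiber_germ, map_zero]
    exact h0
  rw [h3]
  exact map_zero _

variable [IsNoetherianRing Λ] (I : Ideal Λ) [AlgebraicGeometry.IsNoetherian X]

/-- A system of constructible sheaves is adic up to translation as soon as, at one geometric point over
every point, its stalk systems are, with a uniform bound. -/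
theorem isARAdicCons_of_stalks {F : ARSys.PS (EtModW.Mod Λ X)}
    (hc : ∀ n : ℕ, EtModW.IsConstructible Λ (F.obj (op n))) (hk : ARSys.TermKilled I F)
    {Ω : X → Type u} [∀ x, Field (Ω x)] [∀ x, IsSepClosed (Ω x)]
    (ξ : ∀ x, Spec (CommRingCat.of (Ω x)) ⟶ X) (hξ : ∀ x, (ξ x).base default = x) (a : ℕ)
    (Y : X → ARSys.PS (ModuleCat.{u + 1} Λ)) (v' : ∀ x, Y x ⟶ F ⋙ EtModW.stalk Λ (ξ x))
    (hY : ∀ x, ARSys.IsAdic I (Y x)) (hk' : ∀ x, AR.KerNull (v' x) a) (hc' : ∀ x, AR.CokNull (v' x) a) :
    IsARAdicCons I F := by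
  obtain ⟨r, hr⟩ : ∃ r, ∀ x : X, AR.MLKills (F ⋙ EtModW.stalk Λ (ξ x)) r :=
    ⟨a, fun x => fun n m hm _ W p hp k hk₁ hk₂ => hc' x hk₁ hk₂ p (by
      have := (AR.isStrict_of_isAdic (hY x)) n m hm
      rw [← cancel_epi (ARSys.tr (Y x) hm), comp_zero, ← Category.assoc, AR.tr_naturality, Category.assoc, hp,
        comp_zero])⟩
  have hrF : AR.MLKills F r := by
    intro n m hm hle W p hp k hk₁ hk₂
    suffices h0 : ARSys.tr F hk₁ ≫ cokernel.π (ARSys.tr F hm) = 0 by
      rw [← cokernel.π_desc (ARSys.tr F hm) p hp, ← Category.assoc, h0, zero_comp]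
    refine eq_zero_of_stalks _ ξ hξ fun x => ?_
    have := preservesFiniteColimits_stalkMod (Λ := Λ) (ξ x)
    rw [Functor.map_comp]
    refine hr x hm hle _ ?_ hk₁ hk₂
    show (EtModW.stalk Λ (ξ x)).map (ARSys.tr F hm) ≫ _ = 0
    rw [← Functor.map_comp, cokernel.condition, Functor.map_zero]
  obtain ⟨F', ι, _, hF', hι, -⟩ := AR.exists_univImages hrF
  have hkF' : ARSys.TermKilled I F' := AR.termKilled_of_mono ι hk
  have hInI : ∀ n, ∀ ⦃T : EtModW.Mod Λ X⦄ (y : T ⟶ F'.obj (op n)), AR.InF F' n n y →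
      AR.InI (I ^ (n - a)) y := by
    intro n T y hy
    obtain ⟨Q, q, hq⟩ := AR.exists_isQuot (I := I ^ (n - a)) (A := Λ)
      (Or.inl (IsNoetherian.noetherian (I ^ (n - a)))) (F'.obj (op n))
    refine AR.IsQuot.inI hq (eq_zero_of_stalks _ ξ hξ fun x => ?_)
    let L := EtModW.stalk Λ (ξ x)
    have := preservesFiniteLimits_stalkMod (Λ := Λ) (ξ x)
    have := preservesFiniteColimits_stalkMod (Λ := Λ) (ξ x)
    let ι' : F' ⋙ L ⟶ F ⋙ L := Functor.whiskerRight ι L
    have : ∀ o, Mono (ι'.app o) := fun o => by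
      have := AR.mono_app ι o
      exact inferInstanceAs (Mono (L.map (ι.app o)))
    have : Mono ι' := NatTrans.mono_of_mono_app ι'
    have hstrict : ARSys.IsStrict (F' ⋙ L) := fun i j hij => by
      have := hF' i j hij
      exact inferInstanceAs (Epi (L.map (ARSys.tr F' hij)))
    obtain ⟨s', -, hsk, hse⟩ := AR.exists_lift_univImages (AR.isStrict_of_isAdic (hY x)) (hk' x) (hc' x) ι' hstrict (r := r)
      fun i W p hp => by
        have h1 : (cokernel.π (ι.app (op i)) : _ ⟶ _) = cokernel.π (ι.app (op i)) := rfl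
        have h2 : L.map (ARSys.tr F (Nat.le_add_right i r) ≫ cokernel.π (ι.app (op i))) = 0 := by
          rw [hι (Nat.le_add_right i r) le_rfl _ (cokernel.condition _), Functor.map_zero]
        rw [Functor.map_comp] at h2
        have hc0 : L.map (ι.app (op i)) ≫ p = 0 := hp
        have hd : p = L.map (cokernel.π (ι.app (op i))) ≫ (PreservesCokernel.iso L (ι.app (op i))).hom ≫
            cokernel.desc (L.map (ι.app (op i))) p hc0 := by
          rw [← Category.assoc, PreservesCokernel.π_iso_hom, cokernel.π_desc]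
        show L.map (ARSys.tr F (Nat.le_add_right i r)) ≫ p = 0
        rw [hd, ← Category.assoc, h2, zero_comp]
    have hin := AR.inI_of_epi_adic (hY x) hsk hse n (L.map y) (fun l hl hlq => by
      show L.map y ≫ L.map (ARSys.tr F' hl) = 0
      rw [← Functor.map_comp, hy l hl hlq, Functor.map_zero])
    rw [Functor.map_comp]
    exact hin _ (AR.homKilledBy_of_killedBy_target _ (isQuot_stalk (ξ x) hq).1)
  have hAR := AR.isARAdic_of_arIso ((AR.isARIso_iff ι).2 ⟨r, AR.kerNull_of_mono ι r, hι⟩)
    (AR.isARAdic_of_fker_le (Or.inl (IsNoetherian.noetherian I)) hF' hkF' a hInI) hk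
  exact isARAdicCons_of_isARAdicNoeth I hAR hc


/-- Being adic up to translation may be checked on a finite jointly surjective family. -/
theorem isARAdicCons_of_family {F : ARSys.PS (EtModW.Mod Λ X)}
    (hc : ∀ n : ℕ, EtModW.IsConstructible Λ (F.obj (op n))) (hk : ARSys.TermKilled I F)
    {κ : Type} [Fintype κ] (U : κ → Scheme.{u}) (g : ∀ i, U i ⟶ X)
    (hg : ∀ x : X, ∃ (i : κ) (y : U i), (g i).base y = x)
    (hF : ∀ i, IsARAdicCons I (F ⋙ EtModW.pull Λ (g i))) : IsARAdicCons I F := by
  choose i y hy using hg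
  choose _ Y v hY _ hv using hF
  choose r hvk hvc using fun i => (AR.isARIso_iff (v i)).1 (hv i)
  let a := Finset.univ.sup r
  let ξ := fun x => geomPoint (y x) ≫ g (i x)
  have hξ : ∀ x, (ξ x).base default = x := fun x => by
    show (g (i x)).base ((geomPoint (y x)).base default) = x
    rw [geomPoint_apply, hy]
  let L := fun x => EtModW.stalk Λ (geomPoint (y x))
  let v₁ : ∀ x, Y (i x) ⋙ L x ⟶ (F ⋙ EtModW.pull Λ (g (i x))) ⋙ L x := fun x =>
    Functor.whiskerRight (v (i x)) (L x)
  let e := fun x => Functor.associator F (EtModW.pull Λ (g (i x))) (L x) ≪≫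
    Functor.isoWhiskerLeft F (PullModExact.stalkPullModIso Λ (g (i x)) (geomPoint (y x))).symm
  refine isARAdicCons_of_stalks I hc hk ξ hξ a (fun x => Y (i x) ⋙ L x) (fun x => v₁ x ≫ (e x).hom)
    (fun x => isAdic_stalk _ (hY (i x))) (fun x => ?_) (fun x => ?_)
  · have := preservesFiniteLimits_stalkMod (Λ := Λ) (geomPoint (y x))
    have := additive_stalkMod (Λ := Λ) (geomPoint (y x))
    exact ((kerNull_map (L x) (hvk (i x))).comp (AR.kerNull_of_mono (e x).hom 0)).mono
      (Finset.le_sup (f := r) (Finset.mem_univ (i x)))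
  · have := preservesFiniteColimits_stalkMod (Λ := Λ) (geomPoint (y x))
    have := additive_stalkMod (Λ := Λ) (geomPoint (y x))
    exact ((cokNull_map (L x) (hvc (i x))).comp (AR.cokNull_of_epi (e x).hom 0)).mono
      (Finset.le_sup (f := r) (Finset.mem_univ (i x)))

end Groth.EtaleSGA5.ARLocal
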