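import Groth.Agent.EtaleDeep.Cons.Criterion
import Groth.Agent.EtaleDeep.Cons.StalkMod
import Groth.Agent.EtaleDeep.Cons.PullMod

/-!
# Bijectivity loci and constructibility of sheaves of modules
-/

set_option autoImplicit false
set_option backward.isDefEq.respectTransparency.types false
set_option linter.style.haveILetI false

universe u

open CategoryTheory CategoryTheory.Limits AlgebraicGeometry Opposite Topology

namespace Groth.EtaleSGA5

open Groth.EtaleBase Groth.EtaleBase.LocConst Groth.EtaleBase.SitePt Groth.EtaleDeep.Cons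
  Groth.SpectralTopology

variable {Λ : Type (u + 1)} [CommRing Λ] {X : Scheme.{u}}

/-- The unit of inverse image on sections, linearly. -/
noncomputable abbrev unitM {T : Scheme.{u}} (g : T ⟶ X) (F : EtModW.Mod Λ X) (W : X.Etale) :
    EtModW.sect Λ F W →ₗ[Λ] EtModW.sect Λ ((EtModW.pull Λ g).obj F) ((EtCoh.bc g).obj W) :=
  (((FixPt.pullPushAdj (Λ := Λ) g).unit.app F).hom.app (op W)).hom

/-- Bijectivity of sections on stalks is insensitive to inverse images. -/
lemma bijective_germ_unitM_iff {T : Scheme.{u}} (g : T ⟶ X) (F : EtModW.Mod Λ X) (W : X.Etale)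
    {M : Type (u + 1)} [AddCommGroup M] [Module Λ M] (s : M →ₗ[Λ] EtModW.sect Λ F W)
    {Ω : Type u} [Field Ω] [IsSepClosed Ω] (ξ : Spec (CommRingCat.of Ω) ⟶ T)
    (t : (Scheme.pointSmallEtale (ξ ≫ g)).fiber.obj W) :
    Function.Bijective (fun a => germ ξ ((toAb Λ T).obj ((EtModW.pull Λ g).obj F)) ((EtCoh.bc g).obj W)
        (pushLift g ξ rfl W t) (unitM g F W (s a))) ↔
      Function.Bijective fun a => germ (ξ ≫ g) ((toAb Λ X).obj F) W t (s a) := by
  have := isIso_cmpPull Λ g F
  let m := (stalkPullIso g ξ).app ((toAb Λ X).obj F) ≪≫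
    (EtCoh.stalk ξ).mapIso (asIso ((cmpPull Λ g).app F))
  have hfun : (fun a => germ ξ ((toAb Λ T).obj ((EtModW.pull Λ g).obj F)) ((EtCoh.bc g).obj W)
        (pushLift g ξ rfl W t) (unitM g F W (s a))) =
      m.hom ∘ fun a => germ (ξ ≫ g) ((toAb Λ X).obj F) W t (s a) := funext fun a => by
    refine Eq.symm ?_
    refine (congrArg ((EtCoh.stalk ξ).map ((cmpPull Λ g).app F))
      (stalkPullIso_germ g ξ ((toAb Λ X).obj F) W t (s a))).trans ?_
    refine (germ_map ξ ((cmpPull Λ g).app F) _ _ _).trans (congrArg _ ?_)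
    exact ConcreteCategory.congr_hom (congrArg (fun q : (toAb Λ X).obj F ⟶ (EtCoh.push g).obj
      ((toAb Λ T).obj ((EtModW.pull Λ g).obj F)) => q.hom.app (op W)) (unit_cmpPull Λ g F)) (s a)
  rw [hfun]
  exact ((ConcreteCategory.isIso_iff_bijective m.hom).1 inferInstance).of_comp_iff' _

/-- For a finite type locally constant sheaf, bijectivity of sections on stalks is locally constant. -/
theorem exists_nhd_bij_constM {G : EtModW.Mod Λ X} (hG : EtModW.IsFTLocConst Λ G) (W : X.Etale)
    {M : Type (u + 1)} [AddCommGroup M] [Module Λ M] [Module.Finite Λ M]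
    (s : M →ₗ[Λ] EtModW.sect Λ G W) (z : W.left) :
    ∃ (O : Set W.left) (p : Prop), IsOpen O ∧ z ∈ O ∧
      ∀ (Ω : Type u) [Field Ω] [IsSepClosed Ω] (ξ : Spec (CommRingCat.of Ω) ⟶ X)
        (t : (Scheme.pointSmallEtale ξ).fiber.obj W), fiberPoint ξ t ∈ O →
          (Function.Bijective (fun a => germ ξ ((toAb Λ X).obj G) W t (s a)) ↔ p) := by
  let ξ := geomPoint (W.hom.base z)
  let A := (toAb Λ X).obj G
  obtain ⟨t, ht⟩ := exists_geomPoint_lift W z
  obtain ⟨U, ⟨y, hy⟩, N, _, _, _, r, hr⟩ := isFT_iff.1 hG (W.hom.base z)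
  obtain ⟨tU, -⟩ := exists_fiber_of_point ξ U y (hy.trans (geomPoint_apply _ _).symm)
  obtain ⟨V, p, q, v, hpv, -⟩ := exists_common ξ W U t tU
  have hr' := hr.res q
  obtain ⟨k, m, hm⟩ := Module.Finite.exists_fin (R := Λ) (M := M)
  choose b hb using fun i => (hr' _ _ _ ξ v).2 (germ ξ A V v (resM p s (m i)))
  obtain ⟨V', g, v', hv', hg⟩ := exists_common_eq ξ (F := A) V v
    (fun i => resM q r (b i)) (fun i => resM p s (m i)) hb
  let T := resM g (resM q r)
  let S := resM g (resM p s)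
  have hrange : ∀ a, S a ∈ LinearMap.range T := by
    have : Submodule.span Λ (Set.range m) ≤ (LinearMap.range T).comap S := by
      rw [Submodule.span_le]
      rintro _ ⟨i, rfl⟩
      exact ⟨b i, hg i⟩
    exact fun a => this (hm.symm ▸ Submodule.mem_top)
  have hT : StalkBijM G V' T := hr'.res g
  have hinj : Function.Injective T := hT.injective (fiberPoint ξ v')
  let h : M →ₗ[Λ] N := (LinearEquiv.ofInjective T hinj).symm.toLinearMap.comp
    (S.codRestrict (LinearMap.range T) hrange)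
  have hh : ∀ a, T (h a) = S a := fun a => congrArg Subtype.val
    ((LinearEquiv.ofInjective T hinj).apply_symm_apply (S.codRestrict (LinearMap.range T) hrange a))
  refine ⟨Set.range (g ≫ p).left.base, Function.Bijective h, (isOpenMap_left _).isOpen_range,
    ⟨fiberPoint ξ v', ?_⟩, fun Ω _ _ ξ' t' ht' => ?_⟩
  · rw [← fiberPoint_map, Functor.map_comp_apply, hv', hpv]
    exact ht
  · obtain ⟨u, hu⟩ := ht'
    obtain ⟨v'', hv'', -⟩ := exists_fiber_lift ξ' (g ≫ p) t' u hu
    have hB := hT _ _ _ ξ' v''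
    have : (fun a => germ ξ' ((toAb Λ X).obj G) W t' (s a)) =
        (fun c => germ ξ' ((toAb Λ X).obj G) V' v'' (T c)) ∘ h := funext fun a => by
      show germ ξ' A W t' (s a) = germ ξ' A V' v'' (T (h a))
      rw [hh a, ← hv'', ← germ_res]
      exact congrArg (germ ξ' A V' v'') (Functor.map_comp_apply A.obj p.op g.op (s a))
    rw [this]
    exact hB.of_comp_iff' h

/-- On a stratum, bijectivity of sections on stalks is locally constant. -/
theorem exists_nhd_bij_const_of_immersionM {F : EtModW.Mod Λ X} {T : Scheme.{u}} (g : T ⟶ X)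
    [IsImmersion g] (hF : EtModW.IsFTLocConst Λ ((EtModW.pull Λ g).obj F)) (W : X.Etale)
    {M : Type (u + 1)} [AddCommGroup M] [Module Λ M] [Module.Finite Λ M]
    (s : M →ₗ[Λ] EtModW.sect Λ F W) (z : W.left) (hz : W.hom.base z ∈ Set.range g) :
    ∃ (O : Set W.left) (p : Prop), IsOpen O ∧ z ∈ O ∧
      ∀ (Ω : Type u) [Field Ω] [IsSepClosed Ω] (ξ : Spec (CommRingCat.of Ω) ⟶ X)
        (t : (Scheme.pointSmallEtale ξ).fiber.obj W), fiberPoint ξ t ∈ O →
          ξ.base default ∈ Set.range g →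
          (Function.Bijective (fun a => germ ξ ((toAb Λ X).obj F) W t (s a)) ↔ p) := by
  obtain ⟨x, hx⟩ := hz
  obtain ⟨z', hz', -⟩ := Scheme.Pullback.exists_preimage_pullback (f := W.hom) (g := g) z x hx.symm
  obtain ⟨O', p, hO', hzO', hp⟩ := exists_nhd_bij_constM hF ((EtCoh.bc g).obj W)
    ((unitM g F W).comp s) z'
  have : IsImmersion (pullback.fst W.hom g) := MorphismProperty.pullback_fst _ _ inferInstance
  obtain ⟨O, hO, hOO'⟩ := (pullback.fst W.hom g).isEmbedding.isInducing.isOpen_iff.1 hO'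
  refine ⟨O, p, hO, ?_, fun Ω _ _ ξ t ht hξ => ?_⟩
  · rw [← hz']
    exact hOO'.ge hzO'
  · obtain ⟨ξ', rfl⟩ := exists_lift_immersion ξ g hξ
    have e1 : (pullback.fst W.hom g).base (fiberPoint ξ' (pushLift g ξ' rfl W t)) = fiberPoint (ξ' ≫ g) t :=
      congrArg (fun m : Spec (CommRingCat.of Ω) ⟶ W.left => m.base default)
        (pushLift_fst g ξ' rfl W t)
    refine Iff.trans ?_ (hp Ω ξ' (pushLift g ξ' rfl W t) (hOO'.le ?_))
    · exact (bijective_germ_unitM_iff g F W s ξ' t).symm
    · show (pullback.fst W.hom g).base _ ∈ O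
      rw [e1]
      exact ht

/-- Bijectivity loci of sections of constructible sheaves of modules are constructible. -/
theorem isConstructible_bijLocusM {F : EtModW.Mod Λ X} (hF : EtModW.IsConstructible Λ F) {U : X.Opens}
    (hU : IsAffineOpen U) (W : X.Etale) {M : Type (u + 1)} [AddCommGroup M] [Module Λ M]
    [Module.Finite Λ M] (s : M →ₗ[Λ] EtModW.sect Λ F W) {N : W.left.Opens} (hN : IsAffineOpen N)
    (hNU : N ≤ W.hom ⁻¹ᵁ U) :
    IsConstructible (Subtype.val ⁻¹' bijLocus ((toAb Λ X).obj F) W s.toAddMonoidHom :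
      Set (N : Set W.left)) := by
  obtain ⟨n, T, g, hg, hc, -, hu, hFT⟩ := (isConstructibleMod_iff F).1 hF U hU
  have := Groth.EGA41Two.spectralSpace_affine N hN
  have := Groth.EGA41Two.spectralSpace_affine U hU
  let r := Set.MapsTo.restrict W.hom.base (N : Set W.left) (U : Set X) hNU
  refine isConstructible_of_cover (fun i => r ⁻¹' (Subtype.val ⁻¹' Set.range (g i))) (fun i => ?_)
    (fun p => (Set.mem_iUnion (s := fun i => Set.range (g i))).1 (hu.ge (r p).2)) fun i p hp => ?_
  · exact Groth.EGA41Two.isConstructible_of_isClopen_ct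
      (@IsClopen.preimage _ _ (constructibleTopology (N : Set W.left)) (constructibleTopology (U : Set X)) _
        (isClopen_ct_of_isConstructible (hc i)) _
        (continuous_ct (Groth.EGA41Two.isSpectralMap_restrict W.hom hU hN hNU)))
  · have := hg i
    obtain ⟨O, P, hO, hpO, h⟩ := exists_nhd_bij_const_of_immersionM (g i) (hFT i) W s p.1 hp
    have key : ∀ q : (N : Set W.left), q.1 ∈ O → W.hom.base q.1 ∈ Set.range (g i) →
        (q.1 ∈ bijLocus ((toAb Λ X).obj F) W s.toAddMonoidHom ↔ P) := by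
      intro q hq hqi
      obtain ⟨t, ht⟩ := exists_geomPoint_lift W q.1
      have ht' : fiberPoint (geomPoint (W.hom.base q.1)) t = q.1 := ht
      constructor
      · intro hb
        exact (h _ _ t (ht'.symm ▸ hq) (by rw [geomPoint_apply]; exact hqi)).1 (hb _ _ t ht')
      · intro hP Ω _ _ ξ t' ht''
        refine (h _ ξ t' (ht''.symm ▸ hq) ?_).2 hP
        rw [← hom_fiberPoint ξ t', ht'']
        exact hqi
    exact ⟨Subtype.val ⁻¹' O, hO.preimage continuous_subtype_val, hpO,
      fun q hq hqi => (key q hq hqi).trans (key p hpO hp).symm⟩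

/-- Bijectivity loci of sections of constructible sheaves of modules are locally constructible. -/
theorem isLocallyConstructible_bijLocusM {F : EtModW.Mod Λ X} (hF : EtModW.IsConstructible Λ F)
    (W : X.Etale) {M : Type (u + 1)} [AddCommGroup M] [Module Λ M] [Module.Finite Λ M]
    (s : M →ₗ[Λ] EtModW.sect Λ F W) :
    IsLocallyConstructible (bijLocus ((toAb Λ X).obj F) W s.toAddMonoidHom) := fun z => by
  obtain ⟨U, hU, hzU, -⟩ := exists_isAffineOpen_mem_and_subset (U := ⊤) (Set.mem_univ (W.hom.base z))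
  obtain ⟨N, hN, hzN, hNU⟩ := exists_isAffineOpen_mem_and_subset (U := W.hom ⁻¹ᵁ U) hzU
  exact ⟨N.1, N.2.mem_nhds hzN, N.2, isConstructible_bijLocusM hF hU W s hN hNU⟩

/-- A finite stalk comes from linear sections over an etale neighbourhood. -/
theorem exists_sectionM [IsNoetherianRing Λ] (F : EtModW.Mod Λ X) {Ω : Type u} [Field Ω]
    [IsSepClosed Ω] (ξ : Spec (CommRingCat.of Ω) ⟶ X) [Module.Finite Λ ((EtModW.stalk Λ ξ).obj F)] :
    ∃ (W : X.Etale) (w : (Scheme.pointSmallEtale ξ).fiber.obj W) (M : Type (u + 1))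
      (_ : AddCommGroup M) (_ : Module Λ M) (_ : Module.Finite Λ M)
      (s : M →ₗ[Λ] EtModW.sect Λ F W),
      Function.Bijective fun a => germ ξ ((toAb Λ X).obj F) W w (s a) := by
  let A := (toAb Λ X).obj F
  obtain ⟨e, he⟩ := exists_stalk_forget ξ F
  have heb : Function.Bijective e.hom := (ConcreteCategory.isIso_iff_bijective e.hom).1 inferInstance
  obtain ⟨k, m, hm⟩ := Module.Finite.exists_fin (R := Λ) (M := (EtModW.stalk Λ ξ).obj F)
  obtain ⟨t₀, -⟩ := exists_fiber_of_point ξ (EtCoh.top X) (ξ.base default) rfl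
  obtain ⟨W, g, w, σ, -, hσ⟩ := exists_common_rep ξ (F := A) (EtCoh.top X) t₀ (fun i => e.inv (m i))
  let L : (Fin k → Λ) →ₗ[Λ] EtModW.sect Λ F W := Fintype.linearCombination Λ σ
  let q : (Fin k → Λ) →ₗ[Λ] (EtModW.stalk Λ ξ).obj F := (germM ξ F W w).hom.comp L
  have hq : Function.Surjective q := by
    rw [← LinearMap.range_eq_top, LinearMap.range_comp, Fintype.range_linearCombination,
      Submodule.map_span, ← Set.range_comp, ← hm]
    congr 2
    funext i
    refine (he W w (σ i)).symm.trans ?_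
    rw [hσ i]
    exact e.inv_hom_id_apply (m i)
  obtain ⟨r, κ, hκ⟩ := Module.Finite.exists_fin (R := Λ) (M := LinearMap.ker q)
  have hzero : ∀ j, germ ξ A W w (L (κ j).1) = germ ξ A W w 0 := fun j => heb.1 (by
    refine (he W w (L (κ j).1)).trans (Eq.trans ?_ (he W w 0).symm)
    exact (LinearMap.mem_ker.1 (κ j).2).trans (map_zero _).symm)
  obtain ⟨W', g', w', hw', he'⟩ := exists_common_eq ξ (F := A) W w _ _ hzero
  let L' := resM g' L
  have hker : LinearMap.ker q ≤ LinearMap.ker L' := by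
    intro v hv
    have : Submodule.span Λ (Set.range κ) ≤ (LinearMap.ker L').comap (LinearMap.ker q).subtype := by
      rw [Submodule.span_le]
      rintro _ ⟨j, rfl⟩
      exact (he' j).trans (map_zero _)
    exact this (hκ.symm ▸ Submodule.mem_top : (⟨v, hv⟩ : LinearMap.ker q) ∈ _)
  let s : ((Fin k → Λ) ⧸ LinearMap.ker q) →ₗ[Λ] EtModW.sect Λ F W' := (LinearMap.ker q).liftQ L' hker
  refine ⟨W', w', _, inferInstance, inferInstance, inferInstance, s, ?_⟩
  have hfun : (fun a => e.hom (germ ξ A W' w' (s a))) = q.quotKerEquivOfSurjective hq := funext fun a => by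
    obtain ⟨b, rfl⟩ := Submodule.Quotient.mk_surjective _ a
    refine (he W' w' _).trans ?_
    refine ((Scheme.pointSmallEtale ξ).toPresheafFiber_w_apply g' w' F.obj (L b)).trans ?_
    rw [hw']
    rfl
  exact (heb.of_comp_iff' _).1 ((congrArg Function.Bijective hfun).mpr
    (q.quotKerEquivOfSurjective hq).bijective)

/-- Sections which are bijective over the image of a morphism pull back to trivializing sections. -/
theorem stalkBijM_pull_of_range {T : Scheme.{u}} (g : T ⟶ X) {F : EtModW.Mod Λ X} (W : X.Etale)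
    {M : Type (u + 1)} [AddCommGroup M] [Module Λ M] (s : M →ₗ[Λ] EtModW.sect Λ F W)
    (h : ∀ z : W.left, W.hom.base z ∈ Set.range g.base →
      z ∈ bijLocus ((toAb Λ X).obj F) W s.toAddMonoidHom) :
    StalkBijM ((EtModW.pull Λ g).obj F) ((EtCoh.bc g).obj W) ((unitM g F W).comp s) :=
  fun Ω _ _ ξ t' => by
  let t := bcFiberEquiv g ξ W t'
  have ht : pushLift g ξ rfl W t = t' := (bcFiberEquiv g ξ W).symm_apply_apply t'
  rw [← ht]
  refine (bijective_germ_unitM_iff g F W s ξ t).2 (h (fiberPoint (ξ ≫ g) t) ?_ Ω (ξ ≫ g) t rfl)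
  rw [hom_fiberPoint, Scheme.Hom.comp_apply]
  exact ⟨_, rfl⟩

/-- The criterion: every point has an etale chart with linear sections which are bijective on stalks
along a locally constructible set through it. -/
theorem isConstructibleMod_of_sections {G : EtModW.Mod Λ X}
    (hsec : ∀ x : X, ∃ (W : X.Etale) (w : (Scheme.pointSmallEtale (geomPoint x)).fiber.obj W)
      (M : Type (u + 1)) (_ : AddCommGroup M) (_ : Module Λ M) (_ : Module.Finite Λ M)
      (s : M →ₗ[Λ] EtModW.sect Λ G W) (S : Set W.left),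
      IsLocallyConstructible S ∧ fiberPoint (geomPoint x) w ∈ S ∧
        S ⊆ bijLocus ((toAb Λ X).obj G) W s.toAddMonoidHom) :
    EtModW.IsConstructible Λ G := by
  rw [isConstructibleMod_iff]
  intro U hU
  have : IsAffine U.toScheme := hU
  have : CompactSpace U.toScheme := isCompact_iff_compactSpace.mp hU.isCompact
  have hUs := Groth.EGA41Two.spectralSpace_affine U hU
  have key : ∀ x : (U : Set X), ∃ E : Set (U : Set X), IsConstructible E ∧ x ∈ E ∧
      ∀ L : Set X, IsLocallyClosed L → L ⊆ Subtype.val '' E → Piece (FTOn G) L := by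
    intro x
    obtain ⟨W, w, M, _, _, _, s, S, hSc, hwS, hS⟩ := hsec x.1
    have hw₀ : W.hom.base (fiberPoint (geomPoint x.1) w) = x.1 :=
      (hom_fiberPoint _ w).trans (geomPoint_apply _ _)
    have : AlgebraicGeometry.Etale W.hom := W.prop
    obtain ⟨O', hO', hw'⟩ := isOpen_induced_iff.1
      (@isOpen_discrete _ _ (W.hom.isDiscrete_preimage_singleton x.1).to_subtype
        {(⟨fiberPoint (geomPoint x.1) w, hw₀⟩ : W.hom.base ⁻¹' {x.1})})
    obtain ⟨N, hN, hwN, hNle⟩ := exists_isAffineOpen_mem_and_subset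
      (U := W.hom ⁻¹ᵁ U ⊓ ⟨O', hO'⟩) (x := fiberPoint (geomPoint x.1) w)
      ⟨show W.hom.base _ ∈ U by rw [hw₀]; exact x.2,
        show (⟨fiberPoint (geomPoint x.1) w, hw₀⟩ : W.hom.base ⁻¹' {x.1}) ∈ Subtype.val ⁻¹' O' from
          hw'.ge rfl⟩
    have hNU : N ≤ W.hom ⁻¹ᵁ U := fun z hz => (hNle hz).1
    have : IsAffine N.toScheme := hN
    have := Groth.EGA41Two.spectralSpace_affine N hN
    have hB : IsConstructible ((Subtype.val ⁻¹' S : Set (N : Set W.left))ᶜ) :=
      ((hSc.preimage_of_isOpenEmbedding N.2.isOpenEmbedding_subtypeVal).isConstructible).compl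
    have : IsAffineHom (W.hom.resLE U N hNU) := isAffineHom_of_isAffine _
    have hrel : ∀ z : (N : Set W.left), ((W.hom.resLE U N hNU) z).1 = W.hom.base z.1 :=
      fun z => congr($(Scheme.Hom.resLE_comp_ι W.hom hNU) z)
    refine ⟨(W.hom.resLE U N hNU) '' Set.univ \ (W.hom.resLE U N hNU) ''
        ((Subtype.val ⁻¹' S : Set (N : Set W.left))ᶜ),
      ((W.hom.resLE U N hNU).isConstructible_image IsConstructible.univ).sdiff
        ((W.hom.resLE U N hNU).isConstructible_image hB),
      ⟨⟨⟨fiberPoint (geomPoint x.1) w, hwN⟩, trivial, Subtype.ext ((hrel _).trans hw₀)⟩, ?_⟩, ?_⟩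
    · rintro ⟨⟨z, hzN⟩, hz, hzx⟩
      have hzx' : W.hom.base z = x.1 := (hrel ⟨z, hzN⟩).symm.trans (congrArg Subtype.val hzx)
      have hzw : z = fiberPoint (geomPoint x.1) w :=
        congrArg Subtype.val (hw'.le (show (⟨z, hzx'⟩ : W.hom.base ⁻¹' {x.1}) ∈ Subtype.val ⁻¹' O' from
          (hNle hzN).2))
      exact hz (show z ∈ S from hzw.symm ▸ hwS)
    · intro L hL hLE
      obtain ⟨⟨T, g, hg, -, hr⟩, -⟩ := PropsBasic2.existsUnique_reduced X L hL
      have := hg
      refine ⟨T, g, hg, hr, ?_⟩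
      refine isFT_iff.2 fun t => ?_
      have hgL : ∀ t' : T, g.base t' ∈ L := fun t' => hr.le ⟨t', rfl⟩
      obtain ⟨p, ⟨⟨⟨z, -, hz⟩, -⟩, hp⟩⟩ := hLE (hgL t)
      refine ⟨(EtCoh.bc g).obj (openObj W N), exists_bc_point g _ t
        ⟨z, (hrel z).symm.trans ((congrArg Subtype.val hz).trans hp)⟩, M, _, _, inferInstance, _,
        stalkBijM_pull_of_range g (openObj W N) (resM (openHom W N) s) ?_⟩
      rintro z' ⟨t', ht'⟩ Ω _ _ η τ hτ
      obtain ⟨p', ⟨⟨-, hnot⟩, hp'⟩⟩ := hLE (hgL t')
      have hz' : (⟨z'.1, z'.2⟩ : (N : Set W.left)) ∈ Subtype.val ⁻¹' S := by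
        by_contra hne
        refine hnot ⟨⟨z'.1, z'.2⟩, hne, Subtype.ext ((hrel _).trans ?_)⟩
        rw [hp', ht']
        rfl
      refine (congrArg Function.Bijective
          (funext fun a => germ_res η ((toAb Λ X).obj G) (openHom W N) τ (s a))).mpr
        (hS hz' Ω η _ ?_)
      rw [fiberPoint_map, hτ]
      rfl
  choose E hE hxE hEP using key
  obtain ⟨t, ht⟩ := @IsCompact.elim_finite_subcover _ (constructibleTopology (U : Set X)) Set.univ _
    (Groth.SpectralTopology.isCompact_ct_of_isClosed_ct (@isClosed_univ _ (constructibleTopology (U : Set X)))) E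
    (fun x => (Groth.SpectralTopology.isClopen_ct_of_isConstructible (hE x)).2)
    (fun x _ => Set.mem_iUnion.2 ⟨x, hxE x⟩)
  choose n A B hA hB hAB using fun x : t => Groth.SpectralTopology.exists_pieces (hE x.1)
  refine adapted_of_pieces (stable_FTOn G) U.2
    (fun j : (x : t) × Fin (n x) => Subtype.val '' (A j.1 j.2 \ B j.1 j.2))
    (fun j => hEP j.1.1 _
      ((Groth.SpectralTopology.isLocallyClosed_sdiff (hA j.1 j.2).1 (hB j.1 j.2).1).image
        IsInducing.subtypeVal (by rw [Subtype.range_coe]; exact U.2.isLocallyClosed))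
      (Set.image_mono (hAB j.1 ▸ Set.subset_iUnion (fun i => A j.1 i \ B j.1 i) j.2)))
    (fun j => ?_) (fun j => ?_) fun y hy => ?_
  · rw [Set.preimage_image_eq _ Subtype.val_injective]
    exact ((hA j.1 j.2).2.isConstructible (hA j.1 j.2).1).sdiff
      ((hB j.1 j.2).2.isConstructible (hB j.1 j.2).1)
  · rintro _ ⟨z, -, rfl⟩
    exact z.2
  · obtain ⟨x, hx, hyx⟩ := Set.mem_iUnion₂.1 (ht (Set.mem_univ (⟨y, hy⟩ : (U : Set X))))
    rw [hAB ⟨x, hx⟩] at hyx
    obtain ⟨i, hi⟩ := Set.mem_iUnion.1 hyx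
    exact Set.mem_iUnion.2 ⟨⟨⟨x, hx⟩, i⟩, ⟨y, hy⟩, hi, rfl⟩

/-- Finitely many sections over affine etale schemes generate all the stalks. -/
theorem exists_generating_sectionsM [IsNoetherianRing Λ] [CompactSpace X] [QuasiSeparatedSpace X]
    {F : EtModW.Mod Λ X} (hF : EtModW.IsConstructible Λ F) :
    ∃ (a : ℕ) (U : Fin a → X.Etale) (σ : ∀ i, EtModW.sect Λ F (U i)),
      (∀ i, IsAffine (U i).left) ∧
      ∀ (Ω : Type u) [Field Ω] [IsSepClosed Ω] (η : Spec (CommRingCat.of Ω) ⟶ X)
        (S : Submodule Λ ((EtModW.stalk Λ η).obj F)),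
        (∀ (i : Fin a) (t : (Scheme.pointSmallEtale η).fiber.obj (U i)),
          (germM η F (U i) t).hom (σ i) ∈ S) → S = ⊤ := by
  classical
  choose W w M hMg hMm hMf s hs using fun x : X =>
    have := finite_stalk_of_isConstructible (geomPoint x) hF
    exists_sectionM F (geomPoint x)
  choose N hN hwN hNle using fun x : X =>
    exists_isAffineOpen_mem_and_subset (U := (⊤ : (W x).left.Opens)) (x := fiberPoint (geomPoint x) (w x)) trivial
  let Z : X → X.Etale := fun x => openObj (W x) (N x)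
  have hZa : ∀ x, IsAffine (Z x).left := fun x => hN x
  let sZ : ∀ x, M x →ₗ[Λ] EtModW.sect Λ F (Z x) := fun x => resM (openHom (W x) (N x)) (s x)
  let E : X → Set X := fun x =>
    (Z x).hom.base '' bijLocus ((toAb Λ X).obj F) (Z x) (sZ x).toAddMonoidHom
  have hE : ∀ x, Topology.IsConstructible (E x) := fun x => by
    let g : (Z x).left ⟶ X := (Z x).hom
    have := hZa x
    have : AlgebraicGeometry.Etale g := (Z x).prop
    have : QuasiCompact g := quasiCompact_of_compactSpace g
    exact (g.isLocallyConstructible_image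
      (isLocallyConstructible_bijLocusM hF (Z x) (sZ x))).isConstructible
  have hxE : ∀ x, x ∈ E x := fun x => by
    obtain ⟨v, hv⟩ := exists_lift_open (geomPoint x) (N x) (w x) (hwN x)
    refine ⟨fiberPoint (geomPoint x) v, fun Ω _ _ η t ht => ?_, (hom_fiberPoint _ v).trans (geomPoint_apply _ _)⟩
    refine bijective_germ_of_fiberPoint_eq ((toAb Λ X).obj F) (Z x) (sZ x).toAddMonoidHom t v ht ?_
    refine (congrArg Function.Bijective (funext fun a => ?_)).mpr (hs x)
    refine (germ_res (geomPoint x) ((toAb Λ X).obj F) (openHom (W x) (N x)) v (s x a)).trans ?_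
    rw [hv]
  have : SpectralSpace X := @SpectralSpace.mk X _ inferInstance inferInstance inferInstance inferInstance inferInstance
  obtain ⟨T, hT⟩ := @IsCompact.elim_finite_subcover _ (constructibleTopology X) Set.univ _
    (Groth.SpectralTopology.isCompact_ct_of_isClosed_ct (@isClosed_univ _ (constructibleTopology X))) E
    (fun x => (Groth.SpectralTopology.isClopen_ct_of_isConstructible (hE x)).2)
    (fun x _ => Set.mem_iUnion.2 ⟨x, hxE x⟩)
  choose k m hm using fun x : X => Module.Finite.exists_fin (R := Λ) (M := M x)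
  obtain ⟨a, ⟨e⟩⟩ := Finite.exists_equiv_fin ((x : T) × Fin (k x.1))
  refine ⟨a, fun i => Z (e.symm i).1.1, fun i => sZ _ (m _ (e.symm i).2),
    fun i => hZa _, fun Ω _ _ η S hS => ?_⟩
  refine eq_top_iff.2 fun y _ => ?_
  obtain ⟨x, hxT, z, hz, hze⟩ := Set.mem_iUnion₂.1 (hT (Set.mem_univ (η.base default)))
  obtain ⟨t, ht⟩ := exists_fiber_of_point η (Z x) z hze
  obtain ⟨eη, heη⟩ := exists_stalk_forget η F
  obtain ⟨c, hc⟩ := (hz Ω η t ht).2 (eη.inv y)
  have hy : (germM η F (Z x) t).hom (sZ x c) = y := by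
    rw [← heη]
    exact (congrArg eη.hom hc).trans (eη.inv_hom_id_apply y)
  rw [← hy]
  have key : ∀ i : Fin (k x), (germM η F (Z x) t).hom (sZ x (m x i)) ∈ S := fun i => by
    obtain ⟨i', hi'⟩ := e.symm.surjective ⟨⟨x, hxT⟩, i⟩
    have key' : ∀ q : (x : T) × Fin (k x.1), q = e.symm i' →
        ∀ t' : (Scheme.pointSmallEtale η).fiber.obj (Z q.1.1),
          (germM η F (Z q.1.1) t').hom (sZ _ (m _ q.2)) ∈ S := by
      rintro q rfl t'
      exact hS i' t'
    exact key' ⟨⟨x, hxT⟩, i⟩ hi'.symm t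
  have : Submodule.span Λ (Set.range (m x)) ≤
      S.comap ((germM η F (Z x) t).hom.comp (sZ x)) := by
    rw [Submodule.span_le]
    rintro _ ⟨i, rfl⟩
    exact key i
  exact this ((hm x).symm ▸ Submodule.mem_top)

end Groth.EtaleSGA5
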