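import Groth.Agent.EtaleDeep.Cons.Mod
import Groth.Agent.EtaleDeep.Cons.Strata
import Mathlib.CategoryTheory.ObjectProperty.FiniteProducts
import Mathlib.Algebra.Homology.ShortComplex.Abelian

/-!
# Constant sheaves and finite sums of constructible sheaves of modules
-/

set_option autoImplicit false
set_option backward.isDefEq.respectTransparency.types false
set_option linter.style.haveILetI false

universe u

open CategoryTheory CategoryTheory.Limits AlgebraicGeometry Opposite

namespace Groth.EtaleSGA5

open Groth.EtaleBase Groth.EtaleBase.LocConst Groth.EtaleDeep.Cons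

variable {Λ : Type (u + 1)} [CommRing Λ] {X : Scheme.{u}}

/-- Constant sheaves with finite values are locally constant of finite type. -/
theorem isFT_constMod (M : Type (u + 1)) [AddCommGroup M] [Module Λ M] [Module.Finite Λ M] :
    EtModW.IsFTLocConst Λ (EtModW.constMod Λ X M) := by
  rw [isFT_iff]
  intro x
  let P : X.Etaleᵒᵖ ⥤ ModuleCat.{u + 1} Λ := (Functor.const _).obj (ModuleCat.of Λ M)
  let η := CategoryTheory.toSheafify X.smallEtaleTopology P
  let s := (η.app (op (EtCoh.top X))).hom
  refine ⟨EtCoh.top X, ⟨x, rfl⟩, M, _, _, inferInstance, s, stalkBij_iff.2 ?_⟩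
  have key : ∀ (Z : (Over (EtCoh.top X))ᵒᵖ) (a : M),
      (toRestr ((toAb Λ X).obj (EtModW.constMod Λ X M)) (EtCoh.top X) s.toAddMonoidHom).app Z a =
        η.app (op Z.unop.left) a := fun Z a =>
    (NatTrans.naturality_apply η Z.unop.hom.op a).symm
  refine ⟨⟨fun {Z} a b e => ?_⟩, ⟨fun {Z} σ => ?_⟩⟩
  · rw [equalizer_mem]
    intro z
    have e : η.app (op Z.unop.left) a = η.app (op Z.unop.left) b := (key Z a).symm.trans (e.trans (key Z b))
    obtain ⟨V, g, v, hg, -⟩ := (mem_topology_iff _).1
      (Presheaf.equalizerSieve_mem X.smallEtaleTopology η (X := op Z.unop.left) a b e) z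
    have : a = b := hg
    subst this
    exact ⟨_, 𝟙 _, z, rfl, rfl⟩
  · refine (equalizer_mem (Y := op Z) _).2 fun z => ?_
    obtain ⟨V, g, v, ⟨a, ha⟩, hv⟩ := (mem_topology_iff _).1
      (Presheaf.imageSieve_mem X.smallEtaleTopology η (U := op Z.left) σ) z
    exact ⟨V, g, v, ⟨a, (key (op (Over.mk (g ≫ Z.hom))) a).trans ha⟩, hv⟩

/-- Finite type locally constant sheaves are constructible. -/
theorem isConstructibleMod_of_isFT {F : EtModW.Mod Λ X} (hF : EtModW.IsFTLocConst Λ F) :
    EtModW.IsConstructible Λ F :=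
  (isConstructibleMod_iff F).2 fun U _ =>
    adapted_of_pieces (stable_FTOn F) U.2 (fun _ : PUnit.{1} => (U : Set X))
      (fun _ => ⟨U, U.ι, inferInstance, by simp, isFT_pull U.ι hF⟩)
      (fun _ => by rw [Subtype.coe_preimage_self]; exact Topology.IsConstructible.univ)
      (fun _ => subset_rfl) (Set.subset_iUnion (fun _ : PUnit.{1} => (U : Set X)) PUnit.unit)

/-- Zero objects are constructible. -/
theorem isConstructibleMod_of_isZero {F : EtModW.Mod Λ X} (hF : IsZero F) :
    EtModW.IsConstructible Λ F := by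
  refine isConstructibleMod_of_isFT (isFT_iff.2 fun x => ?_)
  refine ⟨EtCoh.top X, ⟨x, rfl⟩, PUnit, inferInstance, inferInstance, inferInstance, 0,
    fun Ω _ _ ξ t => ?_⟩
  have := AddCommGrpCat.subsingleton_of_isZero
    ((EtCoh.stalk ξ).map_isZero ((toAb Λ X).map_isZero hF))
  exact ⟨fun a b _ => Subsingleton.elim a b, fun y => ⟨0, Subsingleton.elim _ _⟩⟩

variable [IsNoetherianRing Λ]

/-- Binary sums of constructible sheaves are constructible. -/
theorem isConstructibleMod_prod {F G : EtModW.Mod Λ X} (hF : EtModW.IsConstructible Λ F)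
    (hG : EtModW.IsConstructible Λ G) : EtModW.IsConstructible Λ (F ⨯ G) :=
  isConstructibleMod_of_iso (biprod.isoProd F G)
    (isConstructibleMod_extension (ShortComplex.Splitting.ofHasBinaryBiproduct F G).shortExact hF hG)

/-- Finite sums of constructible sheaves are constructible. -/
theorem isConstructibleMod_sigma {m : ℕ} (F : Fin m → EtModW.Mod Λ X)
    (h : ∀ i, EtModW.IsConstructible Λ (F i)) : EtModW.IsConstructible Λ (∐ F) := by
  let P : ObjectProperty (EtModW.Mod Λ X) := fun G => EtModW.IsConstructible Λ G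
  have : P.IsClosedUnderIsomorphisms := ⟨fun e hG => isConstructibleMod_of_iso e hG⟩
  have : P.ContainsZero := ⟨⟨_, isZero_zero _, isConstructibleMod_of_isZero (isZero_zero _)⟩⟩
  have : P.IsClosedUnderBinaryProducts := ⟨by
    rintro G ⟨p⟩
    let X₁ := p.diag.obj ⟨WalkingPair.left⟩
    let X₂ := p.diag.obj ⟨WalkingPair.right⟩
    refine isConstructibleMod_of_iso ?_ (isConstructibleMod_prod (p.prop_diag_obj ⟨WalkingPair.left⟩)
      (p.prop_diag_obj ⟨WalkingPair.right⟩))
    exact (limit.isLimit (pair X₁ X₂)).conePointUniqueUpToIso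
      ((IsLimit.postcomposeHomEquiv (diagramIsoPair p.diag) _).symm p.isLimit)⟩
  have := ObjectProperty.IsClosedUnderFiniteProducts.mk' (P := P)
  have : HasFiniteBiproducts (EtModW.Mod Λ X) := HasFiniteBiproducts.of_hasFiniteProducts
  have hb : P (⨁ F) := P.prop_of_isLimit_fan (biproduct.isLimit F) h
  exact isConstructibleMod_of_iso (biproduct.isoCoproduct F) hb

/-- The homology of a complex with constructible terms is constructible. -/
theorem isConstructibleMod_homology {K : CochainComplex (EtModW.Mod Λ X) ℤ}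
    (h : ∀ i, EtModW.IsConstructible Λ (K.X i)) (i : ℤ) :
    EtModW.IsConstructible Λ (K.homology i) := by
  have hc : EtModW.IsConstructible Λ (K.cycles i) :=
    isConstructibleMod_of_iso
      ((kernelIsKernel (K.d i (i + 1))).conePointUniqueUpToIso (K.cyclesIsKernel i (i + 1) (by simp)))
      (isConstructibleMod_kernel _ (h i) (h (i + 1)))
  exact isConstructibleMod_of_iso
    ((cokernelIsCokernel (K.toCycles (i - 1) i)).coconePointUniqueUpToIso
      (K.homologyIsCokernel (i - 1) i (by simp)))
    (isConstructibleMod_cokernel _ (h (i - 1)) hc)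

end Groth.EtaleSGA5
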