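import Mathlib.Algebra.Homology.DerivedCategory.ExactFunctor
import Mathlib.Algebra.Homology.DerivedCategory.HomologySequence
import Mathlib.Algebra.Homology.ShortComplex.PreservesHomology
import Mathlib.CategoryTheory.Localization.Adjunction
import Mathlib.CategoryTheory.Adjunction.FullyFaithful

/-!
# Adjunctions between exact functors, on derived categories
-/

set_option autoImplicit false

universe w₁ w₂ v₁ v₂ u₁ u₂

open CategoryTheory CategoryTheory.Limits

noncomputable section

namespace Groth.EtaleSGA5.ExactAdj

variable {A : Type u₁} [Category.{v₁} A] [Abelian A] [HasDerivedCategory.{w₁} A]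
  {B : Type u₂} [Category.{v₂} B] [Abelian B] [HasDerivedCategory.{w₂} B]
  {L : A ⥤ B} {R : B ⥤ A} [L.Additive] [R.Additive] (adj : L ⊣ R)

/-- An adjunction of additive functors on complexes. -/
def mapComplexAdj : L.mapHomologicalComplex (ComplexShape.up ℤ) ⊣ R.mapHomologicalComplex (ComplexShape.up ℤ) :=
  Adjunction.mkOfUnitCounit
    { unit :=
        { app := fun K =>
            { f := fun n => adj.unit.app (K.X n)
              comm' := fun i j _ => (adj.unit.naturality (K.d i j)).symm }
          naturality := fun K K' f => HomologicalComplex.hom_ext _ _ fun n => adj.unit.naturality (f.f n) }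
      counit :=
        { app := fun K =>
            { f := fun n => adj.counit.app (K.X n)
              comm' := fun i j _ => (adj.counit.naturality (K.d i j)).symm }
          naturality := fun K K' f => HomologicalComplex.hom_ext _ _ fun n => adj.counit.naturality (f.f n) }
      left_triangle := by
        ext K n
        simp only [NatTrans.comp_app, Functor.whiskerRight_app, Functor.whiskerLeft_app, Functor.associator_hom_app, HomologicalComplex.comp_f]
        exact (congrArg (_ ≫ ·) (Category.id_comp _)).trans (adj.left_triangle_components (K.X n))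
      right_triangle := by
        ext K n
        simp only [NatTrans.comp_app, Functor.whiskerRight_app, Functor.whiskerLeft_app, Functor.associator_inv_app, HomologicalComplex.comp_f]
        exact (congrArg (_ ≫ ·) (Category.id_comp _)).trans (adj.right_triangle_components (K.X n)) }

variable [PreservesFiniteLimits L] [PreservesFiniteColimits L] [PreservesFiniteLimits R] [PreservesFiniteColimits R]

instance : CatCommSq (L.mapHomologicalComplex (ComplexShape.up ℤ)) (DerivedCategory.Q (C := A)) (DerivedCategory.Q (C := B))
    L.mapDerivedCategory := ⟨L.mapDerivedCategoryFactors.symm⟩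

/-- The induced adjunction on derived categories. -/
def mapDerivedAdj : L.mapDerivedCategory ⊣ R.mapDerivedCategory :=
  letI : CatCommSq (R.mapHomologicalComplex (ComplexShape.up ℤ)) (DerivedCategory.Q (C := B))
      (DerivedCategory.Q (C := A)) R.mapDerivedCategory := ⟨R.mapDerivedCategoryFactors.symm⟩
  (mapComplexAdj adj).localization DerivedCategory.Q (HomologicalComplex.quasiIso A (ComplexShape.up ℤ))
    DerivedCategory.Q (HomologicalComplex.quasiIso B (ComplexShape.up ℤ)) L.mapDerivedCategory R.mapDerivedCategory

theorem isIso_counit_mapDerivedAdj [IsIso adj.counit] : IsIso (mapDerivedAdj adj).counit := by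
  letI : CatCommSq (R.mapHomologicalComplex (ComplexShape.up ℤ)) (DerivedCategory.Q (C := B))
      (DerivedCategory.Q (C := A)) R.mapDerivedCategory := ⟨R.mapDerivedCategoryFactors.symm⟩
  have h : ∀ K, IsIso ((mapDerivedAdj adj).counit.app (DerivedCategory.Q.obj K)) := fun K => by
    have hc : IsIso ((mapComplexAdj adj).counit.app K) :=
      have : ∀ n, IsIso (((mapComplexAdj adj).counit.app K).f n) := fun n => by
        change IsIso (adj.counit.app (K.X n)); infer_instance
      HomologicalComplex.Hom.isIso_of_components _
    unfold mapDerivedAdj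
    rw [Adjunction.localization_counit_app]
    infer_instance
  exact @NatIso.isIso_of_isIso_app _ _ _ _ _ _ _ fun X => by
    let e := (DerivedCategory.Q (C := B)).objObjPreimageIso X
    have := h ((DerivedCategory.Q (C := B)).objPreimage X)
    exact ((NatTrans.isIso_app_iff_of_iso _ e).1 this)

theorem fullyFaithful_mapDerived [IsIso adj.counit] :
    R.mapDerivedCategory.Full ∧ R.mapDerivedCategory.Faithful :=
  have := isIso_counit_mapDerivedAdj adj
  ⟨(mapDerivedAdj adj).fullyFaithfulROfIsIsoCounit.full, (mapDerivedAdj adj).fullyFaithfulROfIsIsoCounit.faithful⟩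

/-- The essential image of the right adjoint is detected on cohomology. -/
theorem essImage_iff [IsIso adj.counit] (X : DerivedCategory A) :
    R.mapDerivedCategory.essImage X ↔
      ∀ n : ℤ, IsIso (adj.unit.app ((DerivedCategory.homologyFunctor A n).obj X)) := by
  letI : CatCommSq (R.mapHomologicalComplex (ComplexShape.up ℤ)) (DerivedCategory.Q (C := B))
      (DerivedCategory.Q (C := A)) R.mapDerivedCategory := ⟨R.mapDerivedCategoryFactors.symm⟩
  obtain ⟨hF, hFf⟩ := fullyFaithful_mapDerived adj
  rw [← (mapDerivedAdj adj).isIso_unit_app_iff_mem_essImage]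
  let K := (DerivedCategory.Q (C := A)).objPreimage X
  let e : DerivedCategory.Q.obj K ≅ X := (DerivedCategory.Q (C := A)).objObjPreimageIso X
  rw [← NatTrans.isIso_app_iff_of_iso (mapDerivedAdj adj).unit e]
  unfold mapDerivedAdj
  rw [Adjunction.localization_unit_app]
  have h0 : ∀ {P Q' R' : DerivedCategory A} (a : P ⟶ Q') (b : Q' ⟶ R') [IsIso b],
      IsIso (a ≫ b) ↔ IsIso a := fun a b _ =>
    ⟨fun h => IsIso.of_isIso_comp_right a b, fun h => IsIso.comp_isIso⟩
  rw [h0, DerivedCategory.isIso_Q_map_iff_quasiIso, quasiIso_iff]
  have : PreservesFiniteLimits (L ⋙ R) := comp_preservesFiniteLimits L R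
  have : PreservesFiniteColimits (L ⋙ R) := comp_preservesFiniteColimits L R
  refine forall_congr' fun n => ?_
  let eH : (K.sc n).homology ≅ (DerivedCategory.homologyFunctor A n).obj X :=
    ((DerivedCategory.homologyFunctorFactors A n).app K).symm ≪≫
      (DerivedCategory.homologyFunctor A n).mapIso e
  rw [quasiIsoAt_iff_isIso_homologyMap, ← NatTrans.isIso_app_iff_of_iso adj.unit eH]
  have h1 := NatTrans.app_homology adj.unit (K.sc n)
  have h2 : ∀ {P Q' R' S' : A} (a : P ⟶ Q') (b : Q' ⟶ R') (c : R' ⟶ S') [IsIso a] [IsIso c],
      IsIso b ↔ IsIso (a ≫ b ≫ c) := fun a b c _ _ =>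
    ⟨fun _ => inferInstance, fun h => by
      have : IsIso (b ≫ c) := IsIso.of_isIso_comp_left a _
      exact IsIso.of_isIso_comp_right b c⟩
  refine Iff.trans ?_ (iff_of_eq (congrArg IsIso h1.symm))
  exact @h2 _ _ _ _ _ _ _ (Iso.isIso_inv _) (Iso.isIso_hom _)

end Groth.EtaleSGA5.ExactAdj
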