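import Groth.Agent.EtaleSGA5.ConsModCriterion
import Groth.Agent.EtaleBase.SitePoints
import Groth.Prelude.Def_SixF2
import Groth.Prelude.Def_EtCore

/-!
# Extensions by zero of constant sheaves of modules as generators
-/

set_option autoImplicit false
set_option backward.isDefEq.respectTransparency.types false
set_option linter.style.haveILetI false

universe u

open CategoryTheory CategoryTheory.Limits AlgebraicGeometry Opposite

namespace Groth.EtaleSGA5

open Groth.EtaleBase Groth.EtaleBase.LocConst Groth.EtaleBase.SitePt Groth.EtaleDeep.Cons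

variable {Λ : Type (u + 1)} [CommRing Λ] {X : Scheme.{u}}

section equiv

variable {U : Scheme.{u}} (j : U ⟶ X) [AlgebraicGeometry.Etale j] [EtShriek.JCont j]

/-- The object `U → X` of the small etale site. -/
noncomputable abbrev ezObj : X.Etale := (EtShriek.compEtale j).obj (EtCoh.top U)

/-- Morphisms out of `j_! Λ` are sections over `U`. -/
noncomputable def ezHomEquiv (G : EtModW.Mod Λ X) :
    ((EtSix.extZeroMod Λ j).obj (EtSix.constΛ Λ U) ⟶ G) ≃
      (ModuleCat.of Λ Λ ⟶ G.obj.obj (op (ezObj j))) :=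
  ((EtSix.extZeroModAdj Λ j).homEquiv _ _).trans
    ((constantSheafAdj U.smallEtaleTopology (ModuleCat.{u + 1} Λ) (EtCore.topIsTerminal U)).homEquiv _ _)

lemma ezHomEquiv_comp {G G' : EtModW.Mod Λ X} (φ : (EtSix.extZeroMod Λ j).obj (EtSix.constΛ Λ U) ⟶ G)
    (ψ : G ⟶ G') : ezHomEquiv j G' (φ ≫ ψ) = ezHomEquiv j G φ ≫ ψ.hom.app (op (ezObj j)) := by
  simp only [ezHomEquiv, Equiv.trans_apply, Adjunction.homEquiv_naturality_right]
  rfl

/-- The tautological section of `j_! Λ`. -/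
noncomputable def ezSect : EtModW.sect Λ ((EtSix.extZeroMod Λ j).obj (EtSix.constΛ Λ U)) (ezObj j) :=
  (ezHomEquiv j _ (𝟙 _)).hom (1 : Λ)

/-- The morphism given by a section. -/
noncomputable def ezDesc {G : EtModW.Mod Λ X} (σ : EtModW.sect Λ G (ezObj j)) :
    (EtSix.extZeroMod Λ j).obj (EtSix.constΛ Λ U) ⟶ G :=
  (ezHomEquiv j G).symm (ModuleCat.ofHom (LinearMap.toSpanSingleton Λ _ σ))

lemma ezDesc_sect {G : EtModW.Mod Λ X} (σ : EtModW.sect Λ G (ezObj j)) :
    ((ezDesc j σ).hom.app (op (ezObj j))).hom (ezSect j) = σ := by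
  have h := ezHomEquiv_comp (Λ := Λ) j (𝟙 _) (ezDesc j σ)
  rw [Category.id_comp] at h
  have h' := (ConcreteCategory.congr_hom h (1 : Λ)).symm
  rw [ezDesc, Equiv.apply_symm_apply] at h'
  exact h'.trans (one_smul Λ σ)

end equiv

lemma compactSpace_of_isAffine (Z : Scheme.{u}) [IsAffine Z] : CompactSpace Z :=
  isCompact_univ_iff.1 (isAffineOpen_top Z).isCompact

/-- Sections lift along epimorphisms on finitely many affine etale charts. -/
theorem exists_affine_lifts {H G : EtModW.Mod Λ X} (π : H ⟶ G) [Epi π] (Z : X.Etale) [IsAffine Z.left]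
    (σ : EtModW.sect Λ G Z) :
    ∃ (n : ℕ) (V : Fin n → X.Etale) (k : ∀ l, V l ⟶ Z) (τ : ∀ l, EtModW.sect Λ H (V l)),
      (∀ l, IsAffine (V l).left) ∧ (∀ z : Z.left, ∃ l v, (k l).left.base v = z) ∧
        ∀ l, (π.hom.app (op (V l))).hom (τ l) = (G.obj.map (k l).op).hom σ := by
  classical
  have hloc : Sheaf.IsLocallySurjective π :=
    (Sheaf.isLocallySurjective_iff_epi' (ModuleCat.{u + 1} Λ) π).2 ‹_›
  choose V g v hg hv using fun z : Z.left =>
    (mem_topology_iff _).1 (hloc.imageSieve_mem (U := Z) σ) z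
  choose N hN hvN hNle using fun z : Z.left =>
    exists_isAffineOpen_mem_and_subset (U := (⊤ : (V z).left.Opens)) (x := v z) trivial
  let O : Z.left → Set Z.left := fun z => Set.range (openHom (V z) (N z) ≫ g z).left.base
  have hO : ∀ z, IsOpen (O z) := fun z => (isOpenMap_left _).isOpen_range
  have hzO : ∀ z, z ∈ O z := fun z => by
    exact ⟨⟨v z, hvN z⟩, hv z⟩
  have := compactSpace_of_isAffine Z.left
  obtain ⟨T, hT⟩ := isCompact_univ.elim_finite_subcover O hO fun z _ => Set.mem_iUnion.2 ⟨z, hzO z⟩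
  obtain ⟨n, ⟨e⟩⟩ := Finite.exists_equiv_fin T
  choose τ hτ using fun z : Z.left => hg z
  refine ⟨n, fun l => openObj (V (e.symm l).1) (N (e.symm l).1),
    fun l => openHom _ _ ≫ g (e.symm l).1,
    fun l => (H.obj.map (openHom (V (e.symm l).1) (N (e.symm l).1)).op).hom (τ (e.symm l).1),
    fun l => hN _, fun z => ?_, fun l => ?_⟩
  · obtain ⟨z', hz', p, hp⟩ := Set.mem_iUnion₂.1 (hT (Set.mem_univ z))
    obtain ⟨l, hl⟩ := e.symm.surjective ⟨z', hz'⟩
    obtain rfl : (e.symm l).1 = z' := congrArg Subtype.val hl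
    exact ⟨l, p, hp⟩
  · refine (NatTrans.naturality_apply π.hom _ (τ (e.symm l).1)).trans ?_
    refine (congrArg (G.obj.map (openHom (V (e.symm l).1) (N (e.symm l).1)).op).hom (hτ _)).trans ?_
    exact (Functor.map_comp_apply G.obj (g (e.symm l).1).op (openHom _ _).op σ).symm

variable [IsNoetherianRing Λ] [CompactSpace X] [QuasiSeparatedSpace X]

/-- An epimorphism onto a constructible sheaf is already epi on a finite sum of sheaves `j_! Λ`. -/
theorem exists_sum_extZero_lift {H G : EtModW.Mod Λ X} (π : H ⟶ G) [Epi π]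
    (hG : EtModW.IsConstructible Λ G) :
    ∃ (m : ℕ) (U : Fin m → Scheme.{u}) (j : ∀ k, U k ⟶ X) (_ : ∀ k, Etale (j k)) (_ : ∀ k, IsAffine (U k)),
      ∀ [∀ k, EtShriek.JCont (j k)],
        ∃ ψ : (∐ fun k => (EtSix.extZeroMod Λ (j k)).obj (EtSix.constΛ Λ (U k))) ⟶ H, Epi (ψ ≫ π) := by
  classical
  obtain ⟨a, Z, σ, hZ, hgen⟩ := exists_generating_sectionsM hG
  choose n V k τ hV hcov hτ using fun i => have := hZ i; exists_affine_lifts π (Z i) (σ i)
  obtain ⟨m, ⟨e⟩⟩ := Finite.exists_equiv_fin ((i : Fin a) × Fin (n i))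
  let W : Fin m → X.Etale := fun q => V (e.symm q).1 (e.symm q).2
  have hWe : ∀ q, AlgebraicGeometry.Etale (W q).hom := fun q => (W q).prop
  refine ⟨m, fun q => (W q).left, fun q => (W q).hom, hWe, fun q => hV _ _, ?_⟩
  intro hJ
  have := hWe
  have : ∀ q, EtShriek.JCont (W q).hom := hJ
  have : HasColimitsOfSize.{u, u} (ModuleCat.{u + 1} Λ) :=
    hasColimitsOfSizeShrink.{u, u, u + 1, u + 1} _
  have : PreservesFilteredColimitsOfSize.{u, u} (forget (ModuleCat.{u + 1} Λ)) :=
    preservesFilteredColimitsOfSize_shrink.{u, u + 1, u, u + 1} _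
  let p : ∀ q, ezObj (W q).hom ⟶ W q := fun q =>
    MorphismProperty.Over.homMk (𝟙 (W q).left) rfl
  let p' : ∀ q, W q ⟶ ezObj (W q).hom := fun q =>
    MorphismProperty.Over.homMk (𝟙 (W q).left)
      ((congrArg (fun f => 𝟙 (W q).left ≫ f) (Category.id_comp (W q).hom)).trans (Category.id_comp _))
  have hpp : ∀ q, p' q ≫ p q = 𝟙 (W q) := fun q => by
    exact MorphismProperty.Over.Hom.ext (Category.id_comp _)
  let ψ : (∐ fun q => (EtSix.extZeroMod Λ (W q).hom).obj (EtSix.constΛ Λ (W q).left)) ⟶ H :=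
    Sigma.desc fun q => ezDesc (W q).hom ((H.obj.map (p q).op).hom (τ (e.symm q).1 (e.symm q).2))
  refine ⟨ψ, ?_⟩
  refine (toAb Λ X).epi_of_epi_map ?_
  refine epi_of_stalk_surjective _ fun x => ?_
  let ξ := geomPoint x
  obtain ⟨eC, heC⟩ := exists_stalk_forget ξ (∐ fun q =>
    (EtSix.extZeroMod Λ (W q).hom).obj (EtSix.constΛ Λ (W q).left))
  obtain ⟨eG, heG⟩ := exists_stalk_forget ξ G
  have htop : LinearMap.range ((EtModW.stalk Λ ξ).map (ψ ≫ π)).hom = ⊤ := by
    refine hgen _ ξ _ fun i t => ?_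
    obtain ⟨l, s, hs⟩ := exists_cover_lift (Scheme.pointSmallEtale ξ)
      (fun l : ULift.{u} (Fin (n i)) => V i l.down) (fun l => k i l.down)
      (fun z => let ⟨l, v, hv⟩ := hcov i z; ⟨⟨l⟩, v, hv⟩) t
    obtain ⟨l⟩ := l
    obtain ⟨q, hq⟩ := e.symm.surjective ⟨i, l⟩
    have key : ∀ (il : (i : Fin a) × Fin (n i)) (_ : il = e.symm q)
        (s' : (Scheme.pointSmallEtale ξ).fiber.obj (V il.1 il.2)),
        (germM ξ G (V il.1 il.2) s').hom ((π.hom.app (op (V il.1 il.2))).hom (τ il.1 il.2)) ∈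
          LinearMap.range ((EtModW.stalk Λ ξ).map (ψ ≫ π)).hom := by
      rintro il rfl s'
      let s'' := (Scheme.pointSmallEtale ξ).fiber.map (p' q) s'
      refine ⟨((EtModW.stalk Λ ξ).map (Sigma.ι (fun q =>
        (EtSix.extZeroMod Λ (W q).hom).obj (EtSix.constΛ Λ (W q).left)) q)).hom
          ((germM ξ _ (ezObj (W q).hom) s'').hom (ezSect (W q).hom)), ?_⟩
      rw [← LinearMap.comp_apply, ← ModuleCat.hom_comp, ← Functor.map_comp, ← Category.assoc,
        Sigma.ι_desc, Functor.map_comp, ModuleCat.hom_comp, LinearMap.comp_apply]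
      refine (congrArg ((EtModW.stalk Λ ξ).map π).hom
        ((Scheme.pointSmallEtale ξ).toPresheafFiber_naturality_apply _ _ s'' _)).trans ?_
      erw [ezDesc_sect]
      refine ((Scheme.pointSmallEtale ξ).toPresheafFiber_naturality_apply π.hom _ s'' _).trans ?_
      refine (congrArg (germM ξ G _ s'').hom (NatTrans.naturality_apply π.hom (p q).op _)).trans ?_
      refine ((Scheme.pointSmallEtale ξ).toPresheafFiber_w_apply (p q) s'' G.obj _).trans ?_
      refine congrArg (fun c => (germM ξ G (W q) c).hom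
        ((π.hom.app (op (W q))).hom (τ (e.symm q).1 (e.symm q).2))) ?_
      show (Scheme.pointSmallEtale ξ).fiber.map (p q) ((Scheme.pointSmallEtale ξ).fiber.map (p' q) s') = s'
      rw [← Functor.map_comp_apply, hpp, Functor.map_id_apply]
    have h1 := key ⟨i, l⟩ hq.symm s
    rw [hτ] at h1
    have h2 := (Scheme.pointSmallEtale ξ).toPresheafFiber_w_apply (k i l) s G.obj (σ i)
    rw [hs] at h2
    exact (congrArg (fun c => c ∈ LinearMap.range ((EtModW.stalk Λ ξ).map (ψ ≫ π)).hom) h2).mp h1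
  intro y
  let y' : (EtModW.stalk Λ ξ).obj G := eG.hom y
  obtain ⟨c, hc⟩ := (htop.symm ▸ Submodule.mem_top :
    y' ∈ LinearMap.range ((EtModW.stalk Λ ξ).map (ψ ≫ π)).hom)
  obtain ⟨A, s, b, rfl⟩ := (Scheme.pointSmallEtale ξ).toPresheafFiber_jointly_surjective c
  refine ⟨germ ξ ((toAb Λ X).obj _) A s b, ?_⟩
  refine (germ_map ξ ((toAb Λ X).map (ψ ≫ π)) A s b).trans ?_
  refine ((ConcreteCategory.isIso_iff_bijective eG.hom).1 inferInstance).1 ?_
  refine (heG A s _).trans (Eq.trans ?_ hc)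
  exact ((Scheme.pointSmallEtale ξ).toPresheafFiber_naturality_apply (ψ ≫ π).hom A s b).symm

end Groth.EtaleSGA5
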