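import Groth.Agent.EtaleSGA5.ExtZeroModStalk
import Groth.Agent.EtaleSGA5.ConsModCriterion

/-!
# Extension by zero along etale morphisms preserves constructibility of sheaves of modules
-/

set_option autoImplicit false
set_option backward.isDefEq.respectTransparency.types false
set_option linter.style.haveILetI false

universe u

open CategoryTheory CategoryTheory.Limits AlgebraicGeometry Opposite Topology

namespace Groth.EtaleSGA5

open Groth.EtaleBase Groth.EtaleBase.LocConst Groth.EtaleBase.SitePt Groth.EtaleDeep.Cons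

variable {U X : Scheme.{u}} (j : U ⟶ X) [AlgebraicGeometry.Etale j] [EtShriek.JCont j]
  {Λ : Type (u + 1)} [CommRing Λ] [IsNoetherianRing Λ]

/-- Extension by zero along quasi-compact quasi-separated etale morphisms preserves constructibility. -/
theorem isConstructible_extZeroMod [QuasiCompact j] [QuasiSeparated j] {F : EtModW.Mod Λ U}
    (hF : EtModW.IsConstructible Λ F) : EtModW.IsConstructible Λ ((EtSix.extZeroMod Λ j).obj F) := by
  classical
  refine isConstructibleMod_of_sections fun x => ?_
  let ξ := geomPoint x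
  have hfinP : ∀ {Ω' : Type u} [Field Ω'] [IsSepClosed Ω'] (η : Spec (CommRingCat.of Ω') ⟶ X),
      Finite (PtOver j η) := fun η => finite_ptOver j η
  obtain ⟨n, ⟨ε⟩⟩ := @Finite.exists_equiv_fin (PtOver j ξ) (hfinP ξ)
  let u : Fin n → PtOver j ξ := ε.symm
  choose V tV M hMg hMm hMf sV hsV using fun k =>
    have := finite_stalk_of_isConstructible (u k).1 hF
    exists_sectionM F (u k).1
  obtain ⟨W, w, a, ha⟩ := exists_common_fin ξ n (fun k => (EtShriek.compEtale j).obj (V k))
    (fun k => compPt j ξ (u k) (V k) (tV k))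
  have : AlgebraicGeometry.Etale W.hom := W.prop
  let b : Fin n → (W.left ⟶ U) := fun k => (a k).left ≫ (V k).hom
  have hb : ∀ k, b k ≫ j = W.hom := fun k =>
    (Category.assoc _ _ _).trans (MorphismProperty.Over.w (a k))
  let γ : Fin n → (W.left ⟶ pullback W.hom j) := fun k =>
    pullback.lift (𝟙 _) (b k) ((Category.id_comp _).trans (hb k).symm)
  have hγ : ∀ k, γ k ≫ pullback.fst W.hom j = 𝟙 _ := fun k => pullback.lift_fst _ _ _
  have hγo : ∀ k, IsOpenImmersion (γ k) := fun k => by
    have he : AlgebraicGeometry.Etale (γ k ≫ pullback.fst W.hom j) := by rw [hγ]; infer_instance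
    have : AlgebraicGeometry.Etale (γ k) := MorphismProperty.of_postcomp (W := @AlgebraicGeometry.Etale)
      (W' := @AlgebraicGeometry.Etale) (γ k) (pullback.fst W.hom j) inferInstance he
    have : Mono (γ k ≫ pullback.fst W.hom j) := by rw [hγ]; infer_instance
    have : Mono (γ k) := mono_of_mono (γ k) (pullback.fst W.hom j)
    exact IsOpenImmersion.of_flat_of_mono (γ k)
  have hγq : ∀ k, QuasiCompact (γ k) := fun k => by
    have : QuasiCompact (γ k ≫ pullback.fst W.hom j) := by rw [hγ]; infer_instance
    exact QuasiCompact.of_comp (γ k) (pullback.fst W.hom j)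
  let ag : ∀ k l, agree j (b k) (b l) ((hb k).trans (hb l).symm) ⟶ W.left := fun k l =>
    pullback.fst (pullback.lift (b k) (b l) ((hb k).trans (hb l).symm)) (pullback.diagonal j)
  have hago : ∀ k l, IsOpenImmersion (ag k l) := fun k l => MorphismProperty.pullback_fst _ _ inferInstance
  have hagq : ∀ k l, QuasiCompact (ag k l) := fun k l => MorphismProperty.pullback_fst _ _ inferInstance
  let S₁ : Set W.left := ⋂ kl : {kl : Fin n × Fin n // kl.1 ≠ kl.2},
    (Set.range (ag kl.1.1 kl.1.2).base)ᶜ
  let S₂ : Set W.left := ((pullback.fst W.hom j).base '' (⋃ k, Set.range (γ k).base)ᶜ)ᶜ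
  let S₃ : Set W.left := ⋂ k, (a k).left.base ⁻¹'
    bijLocus ((toAb Λ U).obj F) (V k) (sV k).toAddMonoidHom
  have hS : IsLocallyConstructible (S₁ ∩ S₂ ∩ S₃) := by
    refine (IsLocallyConstructible.inter ?_ ?_).inter ?_
    · refine IsLocallyConstructible.iInter fun kl => Groth.EGA41Two.isLocallyConstructible_compl ?_
      have := hago kl.1.1 kl.1.2
      have := hagq kl.1.1 kl.1.2
      exact isLocallyConstructible_range _
    · refine Groth.EGA41Two.isLocallyConstructible_compl ((pullback.fst W.hom j).isLocallyConstructible_image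
        (Groth.EGA41Two.isLocallyConstructible_compl (IsLocallyConstructible.iUnion fun k => ?_)))
      have := hγo k
      have := hγq k
      exact isLocallyConstructible_range _
    · refine IsLocallyConstructible.iInter fun k => ?_
      have := isLocallyConstructible_bijLocusM hF (V k) (sV k)
      rw [Groth.EGA41Two.isLocallyConstructible_iff_lClosed] at this ⊢
      exact ⟨this.1.preimage (a k).left, this.2.preimage (a k).left⟩
  have hwb : ∀ k, w.left ≫ b k = (u k).1 := fun k => by
    have h1 : w.left ≫ (a k).left = (tV k).left :=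
      congrArg (fun m => m.left) (ha k)
    exact (Category.assoc _ _ _).symm.trans ((congrArg (· ≫ (V k).hom) h1).trans (Over.w (tV k)))
  let un : ∀ k, EtModW.sect Λ F (V k) →ₗ[Λ]
      EtModW.sect Λ ((EtSix.extZeroMod Λ j).obj F) ((EtShriek.compEtale j).obj (V k)) :=
    fun k => (((EtSix.extZeroModAdj Λ j).unit.app F).hom.app (op (V k))).hom
  let s : (∀ k, M k) →ₗ[Λ] EtModW.sect Λ ((EtSix.extZeroMod Λ j).obj F) W :=
    ∑ k, (resM (a k) ((un k).comp (sV k))) ∘ₗ LinearMap.proj k
  let wl : Spec (CommRingCat.of (SeparableClosure (X.residueField x))) ⟶ W.left := w.left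
  refine ⟨W, w, ∀ k, M k, inferInstance, inferInstance, inferInstance, s, S₁ ∩ S₂ ∩ S₃, hS,
    ⟨⟨?_, ?_⟩, ?_⟩, ?_⟩
  · refine Set.mem_iInter.2 fun ⟨⟨k, l⟩, hkl⟩ => ?_
    rintro ⟨p, hp⟩
    have := hago k l
    let m := IsOpenImmersion.lift (ag k l) wl (by
      rintro _ ⟨q, rfl⟩
      rw [Subsingleton.elim q default]
      exact ⟨p, hp⟩)
    have hm : m ≫ ag k l = wl := IsOpenImmersion.lift_fac _ _ _
    refine hkl (ε.symm.injective (Subtype.ext ?_))
    show (u k).1 = (u l).1
    refine (hwb k).symm.trans (Eq.trans ?_ (hwb l))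
    show wl ≫ b k = wl ≫ b l
    exact (congrArg (· ≫ b k) hm.symm).trans ((Category.assoc _ _ _).trans
      ((congrArg (m ≫ ·) (agree_fst_comp j (b k) (b l) ((hb k).trans (hb l).symm))).trans
        ((Category.assoc _ _ _).symm.trans (congrArg (· ≫ b l) hm))))
  · rintro ⟨p, hp, hpw⟩
    let Q : W.left.Etale := Scheme.Etale.mk (pullback.fst W.hom j)
    obtain ⟨q, hq⟩ := exists_fiber_of_point wl Q p hpw
    let ql : Spec (CommRingCat.of (SeparableClosure (X.residueField x))) ⟶ pullback W.hom j := q.left
    have hq1 : ql ≫ pullback.fst W.hom j = wl := Over.w q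
    have hq2 : ql.base default = p := hq
    let u₀ : PtOver j ξ := ⟨ql ≫ pullback.snd W.hom j, (Category.assoc _ _ _).trans
      ((congrArg (ql ≫ ·) pullback.condition.symm).trans
        ((Category.assoc _ _ _).symm.trans ((congrArg (· ≫ W.hom) hq1).trans (Over.w w))))⟩
    have hk : (u (ε u₀)).1 = ql ≫ pullback.snd W.hom j := congrArg Subtype.val (ε.symm_apply_apply u₀)
    have : ql = wl ≫ γ (ε u₀) := pullback.hom_ext
      (hq1.trans (((Category.assoc _ _ _).trans ((congrArg (wl ≫ ·) (hγ (ε u₀))).trans (Category.comp_id _))).symm))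
      (hk.symm.trans ((hwb (ε u₀)).symm.trans
        ((congrArg (wl ≫ ·) (pullback.lift_snd _ _ _).symm).trans (Category.assoc _ _ _).symm)))
    refine hp (Set.mem_iUnion.2 ⟨ε u₀, wl.base default, ?_⟩)
    rw [← hq2, this]
    rfl
  · refine Set.mem_iInter.2 fun k Ω' _ _ η t ht => ?_
    have h1 : w.left ≫ (a k).left = (tV k).left := congrArg (fun m => m.left) (ha k)
    refine bijective_germ_of_fiberPoint_eq ((toAb Λ U).obj F) (V k) (sV k).toAddMonoidHom t (tV k) ?_ (hsV k)
    rw [ht]
    exact congrArg (fun m : Spec (CommRingCat.of _) ⟶ (V k).left => m.base default) h1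
  · rintro z ⟨⟨hz₁, hz₂⟩, hz₃⟩ Ω' _ _ η t htz
    have := hfinP η
    let _ := Fintype.ofFinite (PtOver j η)
    let p : Fin n → PtOver j η := fun k =>
      basePt j η (V k) ((Scheme.pointSmallEtale η).fiber.map (a k) t)
    let tl : Spec (CommRingCat.of Ω') ⟶ W.left := t.left
    have hp : ∀ k, (p k).1 = tl ≫ b k := fun k => Category.assoc _ _ _
    have hpb : Function.Bijective p := by
      refine ⟨fun k l hkl => ?_, fun u' => ?_⟩
      · by_contra hne
        refine Set.mem_iInter.1 hz₁ ⟨(k, l), hne⟩ ?_
        obtain ⟨m, hm⟩ := exists_lift_agree j (b k) (b l) ((hb k).trans (hb l).symm) tl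
          (by rw [← hp, ← hp, hkl])
        refine ⟨m.base default, ?_⟩
        rw [← Scheme.Hom.comp_apply, hm]
        exact htz
      · let q : Spec (CommRingCat.of Ω') ⟶ pullback W.hom j :=
          pullback.lift tl u'.1 ((Over.w t).trans u'.2.symm)
        have hq : (pullback.fst W.hom j).base (q.base default) = z := by
          rw [← Scheme.Hom.comp_apply, pullback.lift_fst]
          exact htz
        obtain ⟨k, y, hy⟩ : ∃ k, q.base default ∈ Set.range (γ k).base := by
          by_contra hne
          exact hz₂ ⟨q.base default, fun h => hne (Set.mem_iUnion.1 h), hq⟩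
        have := hγo k
        have hqγ := eq_comp_section (γ k) (pullback.fst W.hom j) (hγ k) q default ⟨y, hy⟩
        refine ⟨k, Subtype.ext ((hp k).trans ?_)⟩
        have h2 : q ≫ pullback.snd W.hom j = u'.1 := pullback.lift_snd _ _ _
        have h3 : q ≫ pullback.fst W.hom j = tl := pullback.lift_fst _ _ _
        refine Eq.trans ?_ h2
        refine Eq.trans ?_ (congrArg (· ≫ pullback.snd W.hom j) hqγ.symm)
        exact (congrArg (· ≫ b k) h3.symm).trans
          ((congrArg ((q ≫ pullback.fst W.hom j) ≫ ·) (pullback.lift_snd _ _ _).symm).trans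
            (Category.assoc _ _ _).symm)
    have hβ : ∀ k, Function.Bijective fun m : M k =>
        (germM (p k).1 F (V k) (upPt j η (V k) ((Scheme.pointSmallEtale η).fiber.map (a k) t))).hom
          (sV k m) := by
      intro k
      have h0 := (Set.mem_iInter.1 hz₃ k) Ω' (p k).1
        (upPt j η (V k) ((Scheme.pointSmallEtale η).fiber.map (a k) t)) (by rw [← htz]; rfl)
      obtain ⟨e, he⟩ := exists_stalk_forget (p k).1 F
      have hfun : (fun m : M k =>
          (germM (p k).1 F (V k) (upPt j η (V k) ((Scheme.pointSmallEtale η).fiber.map (a k) t))).hom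
            (sV k m)) = e.hom ∘ fun m : M k => germ (p k).1 ((toAb Λ U).obj F) (V k)
              (upPt j η (V k) ((Scheme.pointSmallEtale η).fiber.map (a k) t)) (sV k m) :=
        funext fun m => (he _ _ _).symm
      rw [hfun]
      exact ((ConcreteCategory.isIso_iff_bijective e.hom).1 inferInstance).comp h0
    let E : (∀ k, M k) ≃ (∀ v : PtOver j η, (EtModW.stalk Λ v.1).obj F) :=
      (Equiv.piCongrRight fun k => Equiv.ofBijective _ (hβ k)).trans
        (Equiv.piCongrLeft (fun v : PtOver j η => (EtModW.stalk Λ v.1).obj F) (Equiv.ofBijective p hpb))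
    obtain ⟨eX, heX⟩ := exists_stalk_forget η ((EtSix.extZeroMod Λ j).obj F)
    refine (((ConcreteCategory.isIso_iff_bijective eX.hom).1 inferInstance).of_comp_iff' _).1 ?_
    refine (congrArg Function.Bijective (funext fun m => ?_)).mpr
      ((bijective_sumIncM j Λ η F).comp E.bijective)
    refine (heX W t (s m)).trans ?_
    show _ = sumIncM j Λ η F (E m)
    simp only [s, sumIncM, LinearMap.sum_apply, LinearMap.comp_apply, LinearMap.proj_apply, map_sum]
    rw [← (Equiv.ofBijective p hpb).sum_comp]
    refine Finset.sum_congr rfl fun k _ => ?_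
    rw [show E m ((Equiv.ofBijective p hpb) k) = (germM (p k).1 F (V k)
        (upPt j η (V k) ((Scheme.pointSmallEtale η).fiber.map (a k) t))).hom (sV k (m k)) from
      Equiv.piCongrLeft_apply_apply (fun v : PtOver j η => (EtModW.stalk Λ v.1).obj F) (Equiv.ofBijective p hpb) _ k]
    refine Eq.trans ?_ (ConcreteCategory.congr_hom (incM_germ j Λ η F (p k) (V k) _) (sV k (m k))).symm
    refine ((Scheme.pointSmallEtale η).toPresheafFiber_w_apply (a k) t
      ((EtSix.extZeroMod Λ j).obj F).obj (un k (sV k (m k)))).trans ?_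
    exact congrArg (fun c => (germM η ((EtSix.extZeroMod Λ j).obj F) _ c).hom (un k (sV k (m k))))
      (Over.OverMorphism.ext rfl)

end Groth.EtaleSGA5
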