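import Groth.Agent.EtaleSGA5.ExtZeroModCons
import Groth.Prelude.Def_EtModD2
import Mathlib.Algebra.Homology.DerivedCategory.ExactFunctor

/-!
# Extension by zero on derived categories preserves constructibility of cohomology
-/

set_option autoImplicit false
set_option backward.isDefEq.respectTransparency.types false
set_option linter.style.haveILetI false

universe u

open CategoryTheory CategoryTheory.Limits AlgebraicGeometry Opposite

attribute [local instance] HasDerivedCategory.standard

namespace Groth.EtaleSGA5

open Groth.EtaleDeep.Cons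

variable {U X : Scheme.{u}} (j : U ⟶ X) [AlgebraicGeometry.Etale j] [EtShriek.JCont j]
  {Λ : Type (u + 1)} [CommRing Λ]

/-- Cohomology sheaves of an extension by zero. -/
theorem nonempty_HD_extZero [PreservesFiniteLimits (EtSix.extZeroMod Λ j)] (M : EtModD.D Λ U) (i : ℤ) :
    Nonempty ((EtSix.extZeroMod Λ j).obj (EtModD.HD M i) ≅
      EtModD.HD ((EtSix.extZeroMod Λ j).mapDerivedCategory.obj M) i) := by
  let F := EtSix.extZeroMod Λ j
  let C := DerivedCategory.Q.objPreimage M
  let e : DerivedCategory.Q.obj C ≅ M := DerivedCategory.Q.objObjPreimageIso M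
  let C' := (F.mapHomologicalComplex (ComplexShape.up ℤ)).obj C
  refine ⟨F.mapIso ((DerivedCategory.homologyFunctor _ i).mapIso e.symm ≪≫
      (DerivedCategory.homologyFunctorFactors _ i).app C) ≪≫ ?_ ≪≫
    ((DerivedCategory.homologyFunctorFactors _ i).app C').symm ≪≫
    (DerivedCategory.homologyFunctor _ i).mapIso
      ((F.mapDerivedCategoryFactors.app C).symm ≪≫ F.mapDerivedCategory.mapIso e)⟩
  exact ((C.sc i).mapHomologyIso F).symm

/-- Extension by zero preserves constructible cohomology. -/
theorem isConstructible_HD_extZero [IsNoetherianRing Λ] [QuasiCompact j] [QuasiSeparated j]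
    [PreservesFiniteLimits (EtSix.extZeroMod Λ j)] (M : EtModD.D Λ U)
    (hM : ∀ i : ℤ, EtModW.IsConstructible Λ (EtModD.HD M i)) (i : ℤ) :
    EtModW.IsConstructible Λ (EtModD.HD ((EtSix.extZeroMod Λ j).mapDerivedCategory.obj M) i) := by
  obtain ⟨e⟩ := nonempty_HD_extZero j M i
  exact isConstructibleMod_of_iso e (isConstructible_extZeroMod j (hM i))

end Groth.EtaleSGA5
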