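import Groth.Agent.EtaleDeep.Cons.StalkMod
import Groth.Agent.EtaleDeep.Cons.PullMod
import Groth.Agent.EtaleDeep.Cons.ExtZeroCons
import Groth.Agent.EtaleBase.ExtZeroToPush
import Groth.Prelude.Def_SixF2

/-!
# Stalks of extensions by zero of sheaves of modules
-/

set_option autoImplicit false
set_option backward.isDefEq.respectTransparency.types false
set_option linter.style.haveILetI false

universe u

open CategoryTheory CategoryTheory.Limits AlgebraicGeometry Opposite

namespace Groth.EtaleSGA5

open Groth.EtaleBase Groth.EtaleBase.LocConst Groth.EtaleDeep.Cons Groth.EtaleBase.ExtZeroPush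

variable {U X : Scheme.{u}} (j : U ⟶ X) [AlgebraicGeometry.Etale j] [EtShriek.JCont j]

section ab

variable {Ω : Type u} [Field Ω] [IsSepClosed Ω] (ξ : Spec (CommRingCat.of Ω) ⟶ X) (F : EtCoh.Ab U)

/-- Germs of extended sections through the stalk comparison. -/
lemma germ_unit_stalkExtZeroIso (V : U.Etale)
    (t : (Scheme.pointSmallEtale ξ).fiber.obj ((EtShriek.compEtale j).obj V)) :
    ((EtShriek.extZeroAdj j).unit.app F).hom.app (op V) ≫
        germ ξ ((EtShriek.extZero j).obj F) ((EtShriek.compEtale j).obj V) t ≫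
          (stalkExtZeroIso j ξ).hom.app F =
      germ (basePt j ξ V t).1 F V (upPt j ξ V t) ≫
        Sigma.ι (fun u : PtOver j ξ => (EtCoh.stalk u.1).obj F) (basePt j ξ V t) := by
  let adjS := (Scheme.pointSmallEtale ξ).skyscraperSheafAdjunction (A := AddCommGrpCat.{u + 1})
  let adj₁ := (EtShriek.extZeroAdj j).comp adjS
  let h := (stalkExtZeroIso j ξ).hom.app F
  have h1 : adj₁.homEquiv F ((sumStalks j ξ).obj F) h = (sumStalksAdj j ξ).unit.app F :=
    Adjunction.homEquiv_leftAdjointUniq_hom_app adj₁ (sumStalksAdj j ξ) F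
  have h2 : adj₁.homEquiv F ((sumStalks j ξ).obj F) h =
      (EtShriek.extZeroAdj j).unit.app F ≫ (EtShriek.restrAlong j).map (adjS.homEquiv _ _ h) := by
    refine (congrFun (congrArg DFunLike.coe
      (congrFun (congrFun (Adjunction.comp_homEquiv (EtShriek.extZeroAdj j) adjS) F) _)) h).trans ?_
    exact (EtShriek.extZeroAdj j).homEquiv_unit _ _ _
  have h3 : (sumStalksAdj j ξ).unit.app F = (skyEquiv j ξ F _).symm fun u =>
      (Scheme.pointSmallEtale u.1).skyscraperSheafAdjunction.homEquiv F _
        (Sigma.ι (fun u : PtOver j ξ => (EtCoh.stalk u.1).obj F) u) := by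
    refine (show (sumStalksAdj j ξ).unit.app F = (skyEquiv j ξ F _).symm fun u =>
      (Scheme.pointSmallEtale u.1).skyscraperSheafAdjunction.homEquiv F _
        (Sigma.ι (fun u : PtOver j ξ => (EtCoh.stalk u.1).obj F) u ≫ 𝟙 _) from rfl).trans ?_
    simp only [Category.comp_id]
  have key := congrArg (fun m : F ⟶ (EtShriek.restrAlong j).obj
      ((Scheme.pointSmallEtale ξ).skyscraperSheafFunctor.obj ((sumStalks j ξ).obj F)) =>
        m.hom.app (op V) ≫ Pi.π _ t) ((h2.symm.trans h1).trans h3)
  refine Eq.trans ?_ (key.trans ?_)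
  · show _ = (_ ≫ _) ≫ _
    refine Eq.trans ?_ (Category.assoc _ _ _).symm
    refine congrArg (((EtShriek.extZeroAdj j).unit.app F).hom.app (op V) ≫ ·) ?_
    show _ = (adjS.homEquiv _ _ h).hom.app (op ((EtShriek.compEtale j).obj V)) ≫ _
    erw [GrothendieckTopology.Point.skyscraperSheafAdjunction_homEquiv_apply_hom]
    simp only [GrothendieckTopology.Point.skyscraperPresheafHomEquiv]
    erw [limit.lift_π]
    rfl
  · refine (skyPair_π _ (op V) t).trans ?_
    erw [GrothendieckTopology.Point.skyscraperSheafAdjunction_homEquiv_apply_hom]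
    exact limit.lift_π _ _

/-- The stalk inclusions are the coproduct injections. -/
lemma inc_stalkExtZeroIso (u : PtOver j ξ) :
    inc j ξ F u ≫ (stalkExtZeroIso j ξ).hom.app F =
      Sigma.ι (fun u : PtOver j ξ => (EtCoh.stalk u.1).obj F) u := by
  refine ConcreteCategory.hom_ext _ _ fun x => ?_
  obtain ⟨V, t, σ, rfl⟩ := germ_surjective u.1 F x
  refine (congrArg ((stalkExtZeroIso j ξ).hom.app F) (inc_germ j ξ F u V t σ)).trans ?_
  refine (ConcreteCategory.congr_hom (germ_unit_stalkExtZeroIso j ξ F V (compPt j ξ u V t)) σ).trans ?_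
  have key : ∀ (a : PtOver j ξ) (_ : a = u) (x : (Scheme.pointSmallEtale a.1).fiber.obj V),
      x.left = t.left →
      Sigma.ι (fun u : PtOver j ξ => (EtCoh.stalk u.1).obj F) a (germ a.1 F V x σ) =
        Sigma.ι (fun u : PtOver j ξ => (EtCoh.stalk u.1).obj F) u (germ u.1 F V t σ) := by
    rintro a rfl x hx
    rw [show x = t from Over.OverMorphism.ext hx]
  exact key _ (Subtype.ext (Over.w t)) _ rfl

/-- The stalk of an extension by zero is the sum of the stalks at the finitely many lifts. -/
theorem bijective_sum_inc' [Fintype (PtOver j ξ)] :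
    Function.Bijective fun x : ∀ u : PtOver j ξ, (EtCoh.stalk u.1).obj F =>
      ∑ u : PtOver j ξ, inc j ξ F u (x u) := by
  classical
  let A : PtOver j ξ → AddCommGrpCat.{u + 1} := fun u => (EtCoh.stalk u.1).obj F
  let h := (stalkExtZeroIso j ξ).hom.app F
  have hh : ∀ u x, h (inc j ξ F u x) = Sigma.ι A u x := fun u x =>
    ConcreteCategory.congr_hom (inc_stalkExtZeroIso j ξ F u) x
  refine ⟨fun x y e => funext fun v => ?_, fun z => ?_⟩
  · let d : (∐ A) ⟶ A v := Sigma.desc fun u =>
      if e : u = v then eqToHom (by rw [e]) else 0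
    have hd : ∀ (u : PtOver j ξ) (w : A u), d (Sigma.ι A u w) =
        if e : u = v then e ▸ w else 0 := fun u w => by
      rw [← ConcreteCategory.comp_apply, Sigma.ι_desc]
      by_cases hu : u = v
      · subst hu; rw [dif_pos rfl, dif_pos rfl]; rfl
      · rw [dif_neg hu, dif_neg hu]; rfl
    let q : (EtCoh.stalk ξ).obj ((EtShriek.extZero j).obj F) ⟶ A v := h ≫ d
    have hq : ∀ w : (∀ u, A u), q (∑ u, inc j ξ F u (w u)) = w v := fun w => by
      rw [map_sum, Finset.sum_eq_single v]
      · refine (congrArg d (hh v (w v))).trans ?_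
        rw [hd, dif_pos rfl]
      · intro u _ hu
        refine (congrArg d (hh u (w u))).trans ?_
        rw [hd, dif_neg hu]
      · exact fun hn => absurd (Finset.mem_univ v) hn
    exact (hq x).symm.trans ((congrArg q e).trans (hq y))
  · obtain ⟨x, rfl⟩ := inc_jointly_surjective j ξ F z
    refine ⟨fun u => x u, ?_⟩
    induction x using DirectSum.induction_on with
    | zero => simp
    | of u a =>
      show ∑ v, inc j ξ F v (DirectSum.of (fun i : PtOver j ξ => (EtCoh.stalk i.1).obj F) u a v) = _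
      rw [DirectSum.toAddMonoid_of, Finset.sum_eq_single u (fun v _ hv => by
        rw [DirectSum.of_eq_of_ne _ _ _ hv, map_zero]) (fun h => absurd (Finset.mem_univ u) h),
        DirectSum.of_eq_same]
    | add a b ha hb =>
      rw [map_add, ← ha, ← hb, ← Finset.sum_add_distrib]
      refine Finset.sum_congr rfl fun u _ => ?_
      show inc j ξ F u ((a + b) u) = inc j ξ F u (a u) + inc j ξ F u (b u)
      rw [DirectSum.add_apply, map_add]

end ab

variable (Λ : Type (u + 1)) [CommRing Λ]

/-- The comparison `j_!(forget F) → forget(j_! F)`. -/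
noncomputable def cmpExtZero (F : EtModW.Mod Λ U) :
    (EtShriek.extZero j).obj ((toAb Λ U).obj F) ⟶ (toAb Λ X).obj ((EtSix.extZeroMod Λ j).obj F) :=
  ((EtShriek.extZeroAdj j).homEquiv _ _).symm ((toAb Λ U).map ((EtSix.extZeroModAdj Λ j).unit.app F))

lemma bijective_unitExtZero (F : EtModW.Mod Λ U) (H : EtCoh.Ab X) :
    Function.Bijective (fun m : (toAb Λ X).obj ((EtSix.extZeroMod Λ j).obj F) ⟶ H =>
      (toAb Λ U).map ((EtSix.extZeroModAdj Λ j).unit.app F) ≫ (EtShriek.restrAlong j).map m) := by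
  let J := X.smallEtaleTopology
  let e := EtShriek.compEtale j
  have : PreservesColimitsOfSize.{u, u + 1} (G Λ) := by
    have : PreservesColimitsOfSize.{u + 1, u + 1, u + 1, u + 1} (G Λ) :=
      ModuleCat.forget₂PreservesColimitsOfSize.{u + 1, u + 1, u + 1, u + 1} Λ
    exact preservesColimitsOfSize_shrink.{u + 1, u + 1, u, u + 1} (G Λ)
  let P := e.op.lan.obj F.obj
  let α : F.obj ⟶ e.op ⋙ P := e.op.lanUnit.app F.obj
  let adj₂ := Functor.sheafPullbackConstruction.sheafAdjunctionContinuous e
    (ModuleCat.{u + 1} Λ) U.smallEtaleTopology J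
  let i := ((EtSix.extZeroModAdj Λ j).leftAdjointUniq adj₂).app F
  have hunit : (adj₂.unit.app F).hom = α ≫ Functor.whiskerLeft e.op (toSheafify J P) := by
    have h := Adjunction.map_restrictFullyFaithful_unit_app
      ((e.op.lanAdjunction (ModuleCat.{u + 1} Λ)).comp
        (sheafificationAdjunction J (ModuleCat.{u + 1} Λ)))
      (fullyFaithfulSheafToPresheaf U.smallEtaleTopology (ModuleCat.{u + 1} Λ))
      (Functor.FullyFaithful.id _) (L := Functor.sheafPullbackConstruction.sheafPullback
        e (ModuleCat.{u + 1} Λ) U.smallEtaleTopology J)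
      (R := e.sheafPushforwardContinuous (ModuleCat.{u + 1} Λ) U.smallEtaleTopology J)
      (Iso.refl _) (Iso.refl _) F
    refine h.trans ?_
    simp [Adjunction.comp_unit_app]
    rfl
  have h1 := Adjunction.unit_leftAdjointUniq_hom_app (EtSix.extZeroModAdj Λ j) adj₂ F
  have : Functor.IsLeftKanExtension P α :=
    inferInstanceAs (Functor.IsLeftKanExtension (e.op.leftKanExtension F.obj)
      (e.op.leftKanExtensionUnit F.obj))
  have : (G Λ).PreservesLeftKanExtension F.obj e.op := inferInstance
  have : Functor.IsLeftKanExtension (P ⋙ G Λ)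
      (Functor.whiskerRight α (G Λ) ≫ (Functor.associator _ _ _).hom) :=
    Functor.PreservesLeftKanExtension.preserves P α
  have hW : J.W (Functor.whiskerRight (toSheafify J P) (G Λ)) :=
    W_whiskerRight Λ _ (J.W_toSheafify P)
  let E : ((toAb Λ X).obj ((EtSix.extZeroMod Λ j).obj F) ⟶ H) ≃
      ((toAb Λ U).obj F ⟶ (EtShriek.restrAlong j).obj H) :=
    ((((toAb Λ X).mapIso i).homFromEquiv).trans
      (fullyFaithfulSheafToPresheaf J AddCommGrpCat.{u + 1}).homEquiv).trans
      ((hW.homEquiv H.obj H.property).trans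
        (((P ⋙ G Λ).homEquivOfIsLeftKanExtension
          (Functor.whiskerRight α (G Λ) ≫ (Functor.associator _ _ _).hom) H.obj).trans
          ((fullyFaithfulSheafToPresheaf U.smallEtaleTopology AddCommGrpCat.{u + 1}).homEquiv
            (X := (toAb Λ U).obj F) (Y := (EtShriek.restrAlong j).obj H)).symm))
  convert E.bijective using 1
  funext m
  apply Sheaf.hom_ext
  ext T x
  have h2 := congrArg (fun k => k.hom.app T) h1
  have h3 := congrArg (fun k => k.app T) hunit
  have h4 : ((toSheafify J P).app (e.op.obj T)) (α.app T x) =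
      i.hom.hom.app (e.op.obj T) (((EtSix.extZeroModAdj Λ j).unit.app F).hom.app T x) :=
    ((ConcreteCategory.congr_hom h2 x).trans (ConcreteCategory.congr_hom h3 x)).symm
  have h5 : ∀ z, i.inv.hom.app (e.op.obj T) (i.hom.hom.app (e.op.obj T) z) = z := fun z =>
    ConcreteCategory.congr_hom (congrArg (fun k => k.hom.app (e.op.obj T)) i.hom_inv_id) z
  refine Eq.trans ?_ (Eq.symm (congrArg (fun z => m.hom.app (e.op.obj T) z)
    ((congrArg (i.inv.hom.app (e.op.obj T)) h4).trans (h5 _))))
  rfl

/-- Forgetting the module structure commutes with extension by zero. -/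
theorem isIso_cmpExtZero (F : EtModW.Mod Λ U) : IsIso (cmpExtZero j Λ F) := by
  have hb : ∀ H, Function.Bijective (fun m => cmpExtZero j Λ F ≫ m :
      ((toAb Λ X).obj ((EtSix.extZeroMod Λ j).obj F) ⟶ H) → _) := fun H => by
    refine (Function.Bijective.of_comp_iff' ((EtShriek.extZeroAdj j).homEquiv _ H).bijective _).1 ?_
    convert bijective_unitExtZero j Λ F H using 1
    funext m
    change (EtShriek.extZeroAdj j).homEquiv _ H
      (((EtShriek.extZeroAdj j).homEquiv _ _).symm ((toAb Λ U).map ((EtSix.extZeroModAdj Λ j).unit.app F)) ≫ m) = _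
    rw [Adjunction.homEquiv_naturality_right, Equiv.apply_symm_apply]
    rfl
  obtain ⟨g, hg⟩ := (hb _).2 (𝟙 _)
  exact ⟨g, hg, (hb _).1 ((Category.assoc _ _ _).symm.trans ((congrArg (· ≫ _) hg).trans
    ((Category.id_comp _).trans (Category.comp_id _).symm)))⟩

/-- The unit of modules through the comparison. -/
theorem unit_cmpExtZero (F : EtModW.Mod Λ U) :
    (EtShriek.extZeroAdj j).unit.app ((toAb Λ U).obj F) ≫
        (EtShriek.restrAlong j).map (cmpExtZero j Λ F) =
      (toAb Λ U).map ((EtSix.extZeroModAdj Λ j).unit.app F) :=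
  ((EtShriek.extZeroAdj j).homEquiv_unit _ _ _).symm.trans (Equiv.apply_symm_apply _ _)

variable {Ω : Type u} [Field Ω] [IsSepClosed Ω] (ξ : Spec (CommRingCat.of Ω) ⟶ X)

/-- The stalk at a lift maps to the stalk of the extension by zero, linearly. -/
noncomputable def incM (F : EtModW.Mod Λ U) (u : PtOver j ξ) :
    (EtModW.stalk Λ u.1).obj F ⟶ (EtModW.stalk Λ ξ).obj ((EtSix.extZeroMod Λ j).obj F) :=
  (Scheme.pointSmallEtale u.1).presheafFiberDesc
    (fun V t => ((EtSix.extZeroModAdj Λ j).unit.app F).hom.app (op V) ≫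
      germM ξ ((EtSix.extZeroMod Λ j).obj F) ((EtShriek.compEtale j).obj V) (compPt j ξ u V t))
    (fun {V V'} g t => by
      erw [← Category.assoc, ((EtSix.extZeroModAdj Λ j).unit.app F).hom.naturality g.op]
      rw [Category.assoc]
      refine congrArg _ (((Scheme.pointSmallEtale ξ).toPresheafFiber_w ((EtShriek.compEtale j).map g)
        (compPt j ξ u V t) ((EtSix.extZeroMod Λ j).obj F).obj).trans ?_)
      exact congrArg (fun z => germM ξ ((EtSix.extZeroMod Λ j).obj F) _ z) (Over.OverMorphism.ext rfl))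

lemma incM_germ (F : EtModW.Mod Λ U) (u : PtOver j ξ) (V : U.Etale)
    (t : (Scheme.pointSmallEtale u.1).fiber.obj V) :
    germM u.1 F V t ≫ incM j Λ ξ F u =
      ((EtSix.extZeroModAdj Λ j).unit.app F).hom.app (op V) ≫
        germM ξ ((EtSix.extZeroMod Λ j).obj F) ((EtShriek.compEtale j).obj V) (compPt j ξ u V t) :=
  (Scheme.pointSmallEtale u.1).toPresheafFiber_presheafFiberDesc _ _ _ _

/-- The sum of the inclusions of the stalks at the lifts. -/
noncomputable def sumIncM [Fintype (PtOver j ξ)] (F : EtModW.Mod Λ U) :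
    (∀ u : PtOver j ξ, (EtModW.stalk Λ u.1).obj F) →ₗ[Λ]
      (EtModW.stalk Λ ξ).obj ((EtSix.extZeroMod Λ j).obj F) :=
  ∑ u : PtOver j ξ, (incM j Λ ξ F u).hom ∘ₗ LinearMap.proj u

/-- The stalk of an extension by zero of modules is the sum of the stalks at the lifts. -/
theorem bijective_sumIncM [Fintype (PtOver j ξ)] (F : EtModW.Mod Λ U) :
    Function.Bijective (sumIncM j Λ ξ F) := by
  have : HasColimitsOfSize.{u, u} (ModuleCat.{u + 1} Λ) :=
    hasColimitsOfSizeShrink.{u, u, u + 1, u + 1} _
  have : PreservesFilteredColimitsOfSize.{u, u} (forget (ModuleCat.{u + 1} Λ)) :=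
    preservesFilteredColimitsOfSize_shrink.{u, u + 1, u, u + 1} _
  choose eu heu using fun u : PtOver j ξ => exists_stalk_forget u.1 F
  obtain ⟨eX, heX⟩ := exists_stalk_forget ξ ((EtSix.extZeroMod Λ j).obj F)
  have := isIso_cmpExtZero j Λ F
  let m := (EtCoh.stalk ξ).mapIso (asIso (cmpExtZero j Λ F)) ≪≫ eX
  have hu : ∀ (u : PtOver j ξ) x, (incM j Λ ξ F u).hom x =
      m.hom (inc j ξ ((toAb Λ U).obj F) u ((eu u).inv x)) := by
    intro u x
    obtain ⟨V, t, σ, rfl⟩ := (Scheme.pointSmallEtale u.1).toPresheafFiber_jointly_surjective x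
    refine (ConcreteCategory.congr_hom (incM_germ j Λ ξ F u V t) σ).trans ?_
    have h0 : (eu u).inv ((germM u.1 F V t).hom σ) = germ u.1 ((toAb Λ U).obj F) V t σ := by
      rw [← heu u V t σ]; exact Iso.hom_inv_id_apply (eu u) _
    refine Eq.trans ?_ (congrArg (fun z => m.hom (inc j ξ ((toAb Λ U).obj F) u z)) h0).symm
    refine Eq.symm ?_
    refine (congrArg m.hom (inc_germ j ξ ((toAb Λ U).obj F) u V t σ)).trans ?_
    refine (congrArg eX.hom (germ_map ξ (cmpExtZero j Λ F) _ _ _)).trans ?_
    refine (heX _ _ _).trans (congrArg _ ?_)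
    exact ConcreteCategory.congr_hom (congrArg (fun q : (toAb Λ U).obj F ⟶ (EtShriek.restrAlong j).obj
      ((toAb Λ X).obj ((EtSix.extZeroMod Λ j).obj F)) => q.hom.app (op V)) (unit_cmpExtZero j Λ F)) σ
  have hsum : ⇑(sumIncM j Λ ξ F) = (fun z => m.hom z) ∘ (fun y : ∀ u : PtOver j ξ,
      (EtCoh.stalk u.1).obj ((toAb Λ U).obj F) => ∑ u, inc j ξ ((toAb Λ U).obj F) u (y u)) ∘
        (fun x u => (eu u).inv (x u)) := by
    funext x
    simp only [sumIncM, LinearMap.sum_apply, LinearMap.comp_apply, LinearMap.proj_apply, hu,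
      Function.comp_apply]
    exact (map_sum m.hom.hom _ _).symm
  rw [hsum]
  refine ((ConcreteCategory.isIso_iff_bijective m.hom).1 inferInstance).comp
    ((bijective_sum_inc' j ξ _).comp ?_)
  exact ⟨fun x y e => funext fun u =>
      ((ConcreteCategory.isIso_iff_bijective (eu u).inv).1 inferInstance).1 (congrFun e u),
    fun y => ⟨fun u => (eu u).hom (y u), funext fun u => Iso.hom_inv_id_apply (eu u) _⟩⟩

end Groth.EtaleSGA5
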