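import Groth.Agent.DAlg.ClassLeftResCochain
import Groth.Agent.EtaleSGA5.ConsModSum
import Groth.Agent.EtaleSGA5.ExtZeroGen
import Groth.Agent.EtaleSGA5.ExtZeroModCons
import Groth.Agent.EtaleBase.InjCoh
import Groth.Prelude.Def_EtModD2
import Mathlib.Algebra.Homology.DerivedCategory.TStructure

/-!
# Resolutions by sums of extensions by zero of constant sheaves
-/

set_option autoImplicit false
set_option backward.isDefEq.respectTransparency.types false
set_option linter.style.haveILetI false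

universe u

open CategoryTheory CategoryTheory.Limits AlgebraicGeometry Opposite

attribute [local instance] HasDerivedCategory.standard

namespace Groth.EtaleSGA5

open Groth.EtaleDeep.Cons

variable {Λ : Type (u + 1)} [CommRing Λ] {X : Scheme.{u}}

/-- `j_! Λ` for an object of the small etale site. -/
noncomputable def ezOf (W : X.Etale) : EtModW.Mod Λ X :=
  letI : AlgebraicGeometry.Etale W.hom := W.prop
  letI : EtShriek.JCont W.hom := Groth.EtaleBase.InjCoh.jCont W.hom
  (EtSix.extZeroMod Λ W.hom).obj (EtSix.constΛ Λ W.left)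

variable (Λ X) in
/-- Finite sums of sheaves `j_! Λ` with affine sources. -/
def IsEzSum : ObjectProperty (EtModW.Mod Λ X) := fun A =>
  ∃ (m : ℕ) (W : Fin m → X.Etale), (∀ k, IsAffine (W k).left) ∧ Nonempty (A ≅ ∐ fun k => ezOf (W k))

/-- A coproduct over a sum type is a binary coproduct. -/
noncomputable def sigmaSumIso {C : Type*} [Category C] [HasFiniteCoproducts C] {m n : ℕ}
    (a : Fin m → C) (b : Fin n → C) :
    (∐ a) ⨿ (∐ b) ≅ ∐ (Sum.elim a b : Fin m ⊕ Fin n → C) where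
  hom := coprod.desc (Sigma.desc fun i => Sigma.ι (Sum.elim a b : Fin m ⊕ Fin n → C) (Sum.inl i))
    (Sigma.desc fun i => Sigma.ι (Sum.elim a b : Fin m ⊕ Fin n → C) (Sum.inr i))
  inv := Sigma.desc fun s => match s with
    | Sum.inl i => Sigma.ι a i ≫ coprod.inl
    | Sum.inr i => Sigma.ι b i ≫ coprod.inr
  hom_inv_id := by
    refine coprod.hom_ext (Sigma.hom_ext _ _ fun i => ?_) (Sigma.hom_ext _ _ fun i => ?_)
    · rw [coprod.inl_desc_assoc]
      erw [Sigma.ι_desc_assoc, Sigma.ι_desc, Category.comp_id]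
      rfl
    · rw [coprod.inr_desc_assoc]
      erw [Sigma.ι_desc_assoc, Sigma.ι_desc, Category.comp_id]
      rfl
  inv_hom_id := by
    refine Sigma.hom_ext _ _ fun s => ?_
    rcases s with i | i
    · rw [Sigma.ι_desc_assoc]
      erw [Category.comp_id, Category.assoc, coprod.inl_desc, Sigma.ι_desc]
    · rw [Sigma.ι_desc_assoc]
      erw [Category.comp_id, Category.assoc, coprod.inr_desc, Sigma.ι_desc]

instance isClosedUnderIsomorphisms_isEzSum : (IsEzSum Λ X).IsClosedUnderIsomorphisms where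
  of_iso := fun e ⟨m, W, hW, ⟨f⟩⟩ => ⟨m, W, hW, ⟨e.symm ≪≫ f⟩⟩

theorem isEzSum_prod {A B : EtModW.Mod Λ X} (hA : IsEzSum Λ X A) (hB : IsEzSum Λ X B) :
    IsEzSum Λ X (A ⨯ B) := by
  obtain ⟨m, W, hW, ⟨e⟩⟩ := hA
  obtain ⟨m', W', hW', ⟨e'⟩⟩ := hB
  let V : Fin (m + m') → X.Etale := Sum.elim W W' ∘ finSumFinEquiv.symm
  refine ⟨m + m', V, fun k => ?_, ⟨?_⟩⟩
  · show IsAffine (Sum.elim W W' (finSumFinEquiv.symm k)).left
    rcases finSumFinEquiv.symm k with i | i
    · exact hW i
    · exact hW' i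
  · have : HasBinaryBiproducts (EtModW.Mod Λ X) := HasBinaryBiproducts.of_hasBinaryProducts
    refine prod.mapIso e e' ≪≫ (biprod.isoProd _ _).symm ≪≫ biprod.isoCoprod _ _ ≪≫
      sigmaSumIso _ _ ≪≫ (Sigma.whiskerEquiv finSumFinEquiv fun s => eqToIso ?_)
    show ezOf (Sum.elim W W' (finSumFinEquiv.symm (finSumFinEquiv s))) =
      Sum.elim (fun k => ezOf (W k)) (fun k => ezOf (W' k)) s
    rw [Equiv.symm_apply_apply]
    rcases s with i | i <;> rfl

variable [IsNoetherianRing Λ] [CompactSpace X] [QuasiSeparatedSpace X]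

theorem isConstructible_ezOf (W : X.Etale) (hW : IsAffine W.left) :
    EtModW.IsConstructible Λ (ezOf (Λ := Λ) W) := by
  let g : W.left ⟶ X := W.hom
  have : AlgebraicGeometry.Etale W.hom := W.prop
  have : EtShriek.JCont W.hom := Groth.EtaleBase.InjCoh.jCont W.hom
  have : QuasiCompact g := quasiCompact_of_compactSpace g
  have : QuasiSeparated g := inferInstance
  exact isConstructible_extZeroMod W.hom (isConstructibleMod_of_isFT (isFT_constMod Λ))

theorem isConstructible_of_isEzSum {A : EtModW.Mod Λ X} (hA : IsEzSum Λ X A) :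
    EtModW.IsConstructible Λ A := by
  obtain ⟨m, W, hW, ⟨e⟩⟩ := hA
  exact isConstructibleMod_of_iso e.symm
    (isConstructibleMod_sigma _ fun k => isConstructible_ezOf (W k) (hW k))

theorem exists_ezSum_epi ⦃A A' : EtModW.Mod Λ X⦄ (u : A ⟶ A') (hA' : EtModW.IsConstructible Λ A')
    (hu : Epi u) : ∃ (B : EtModW.Mod Λ X) (v : B ⟶ A), IsEzSum Λ X B ∧ Epi (v ≫ u) := by
  obtain ⟨m, U, j, hj, hU, h⟩ := exists_sum_extZero_lift u hA'
  let W : Fin m → X.Etale := fun k => Scheme.Etale.mk (j k)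
  have hJ : ∀ k, EtShriek.JCont (j k) := fun k => Groth.EtaleBase.InjCoh.jCont (j k)
  obtain ⟨ψ, hψ⟩ := @h hJ
  exact ⟨_, ψ, ⟨m, W, hU, ⟨Iso.refl _⟩⟩, hψ⟩

/-- Complexes with constructible cohomology, bounded above, as complexes of sums of `j_! Λ`. -/
theorem exists_ezResolution (K : EtModD.D Λ X) (n : ℤ) [K.IsLE n]
    (hK : ∀ i : ℤ, EtModW.IsConstructible Λ (EtModD.HD K i)) :
    ∃ C : CochainComplex (EtModW.Mod Λ X) ℤ, (∀ i, n < i → IsZero (C.X i)) ∧
      (∀ i, IsEzSum Λ X (C.X i)) ∧ Nonempty (DerivedCategory.Q.obj C ≅ K) := by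
  let P := DerivedCategory.Q.objPreimage K
  let e : DerivedCategory.Q.obj P ≅ K := DerivedCategory.Q.objObjPreimageIso K
  have eh : ∀ i, P.homology i ≅ EtModD.HD K i := fun i =>
    ((DerivedCategory.homologyFunctorFactors _ i).app P).symm ≪≫
      (DerivedCategory.homologyFunctor _ i).mapIso e
  let K' : ObjectProperty (EtModW.Mod Λ X) := fun A => EtModW.IsConstructible Λ A
  have : K'.IsClosedUnderIsomorphisms := ⟨fun e h => isConstructibleMod_of_iso e h⟩
  obtain ⟨Q, u, hQ, hQz, hu⟩ := Groth.DAlg.ClassLeftRes.exists_cochain K' (IsEzSum Λ X)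
    exists_ezSum_epi (fun _ _ v hA hB _ => isConstructibleMod_kernel v hA hB)
    (fun _ _ => isEzSum_prod) (fun _ h => isConstructible_of_isEzSum h) P
    (fun i => isConstructibleMod_of_iso (eh i).symm (hK i)) n
    (fun i hi => (K.isZero_of_isLE n i hi).of_iso (eh i))
  refine ⟨Q, hQz, fun i => ?_, ⟨asIso (DerivedCategory.Q.map u) ≪≫ e⟩⟩
  by_cases hi : i ≤ n
  · exact hQ i hi
  · refine ⟨0, fun k => k.elim0, fun k => k.elim0, ⟨(hQz i (by omega)).iso ?_⟩⟩
    rw [IsZero.iff_id_eq_zero]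
    exact Sigma.hom_ext _ _ fun k => k.elim0

end Groth.EtaleSGA5
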