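import Groth.Agent.EtaleSGA5.FlatStalks
import Groth.Agent.DerivedCoh.KFlat.Unbounded

/-!
# The functorial cover by sums of sheaves `j_! Λ`, and colimits in tensor products
-/

set_option autoImplicit false
set_option backward.isDefEq.respectTransparency.types false
set_option linter.style.haveILetI false
set_option synthInstance.maxHeartbeats 200000

universe u

open CategoryTheory CategoryTheory.Limits AlgebraicGeometry Opposite MonoidalCategory

namespace Groth.EtaleSGA5

open Groth.EtaleBase Groth.EtaleBase.LocConst Groth.EtaleBase.SitePt Groth.EtaleDeep.Cons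

namespace EzCover

variable {Λ : Type (u + 1)} [CommRing Λ] {X : Scheme.{u}}

variable (X) in
/-- Affine etale schemes over affine opens. -/
abbrev SmallObj : Type (u + 1) :=
  {W : X.Etale // IsAffine W.left ∧ ∃ A : X.Opens, IsAffineOpen A ∧ Set.range W.hom.base ⊆ (A : Set X)}

lemma hasFlatStalks_ezOf (W : SmallObj X) : HasFlatStalks (ezOf (Λ := Λ) W.1) := by
  obtain ⟨W, hW, A, hA, hWA⟩ := W
  letI : AlgebraicGeometry.Etale W.hom := W.prop
  letI : EtShriek.JCont W.hom := Groth.EtaleBase.InjCoh.jCont W.hom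
  refine hasFlatStalks_extZero W.hom fun Ω _ _ ξ => ?_
  have : IsAffine A := hA
  let g : W.left ⟶ (A : Scheme.{u}) := IsOpenImmersion.lift A.ι W.hom (by simpa using hWA)
  have hg : g ≫ A.ι = W.hom := IsOpenImmersion.lift_fac _ _ _
  have : AlgebraicGeometry.Etale (g ≫ A.ι) := by rw [hg]; infer_instance
  have : AlgebraicGeometry.Etale g :=
    MorphismProperty.of_postcomp (W := @AlgebraicGeometry.Etale) (W' := @AlgebraicGeometry.Etale) g A.ι
      inferInstance this
  have : CompactSpace W.left := compactSpace_of_isAffine W.left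
  have : QuasiCompact g := quasiCompact_of_compactSpace g
  exact finite_ptOver_of_fac W.hom g A.ι hg ξ

/-- Nonzero morphisms from sheaves `j_! Λ`. -/
abbrev Idx (M : EtModW.Mod Λ X) : Type (u + 1) :=
  {p : Σ W : SmallObj X, (ezOf W.1 ⟶ M) // p.2 ≠ 0}

instance hasCoproductsOfShape_idx (M : EtModW.Mod Λ X) :
    HasColimitsOfShape (Discrete (Idx M)) (EtModW.Mod Λ X) :=
  have := IsGrothendieckAbelian.hasColimits (EtModW.Mod Λ X)
  inferInstance

instance hasCoproduct_idx (M : EtModW.Mod Λ X) : HasCoproduct (fun i : Idx M => ezOf (Λ := Λ) i.1.1.1) :=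
  (hasCoproductsOfShape_idx M).has_colimit _

/-- The cover. -/
noncomputable abbrev coverObj (M : EtModW.Mod Λ X) : EtModW.Mod Λ X :=
  ∐ fun i : Idx M => ezOf i.1.1.1

open scoped Classical in
/-- The summand of a morphism. -/
noncomputable def inj (M : EtModW.Mod Λ X) (W : SmallObj X) (t : ezOf W.1 ⟶ M) : ezOf W.1 ⟶ coverObj M :=
  if h : t = 0 then 0 else Sigma.ι (fun i : Idx M => ezOf i.1.1.1) ⟨⟨W, t⟩, h⟩

lemma inj_zero (M : EtModW.Mod Λ X) (W : SmallObj X) : inj M W 0 = 0 := by simp [inj]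

lemma ι_eq_inj (M : EtModW.Mod Λ X) (i : Idx M) :
    Sigma.ι (fun i : Idx M => ezOf i.1.1.1) i = inj M i.1.1 i.1.2 := by
  simp [inj, i.2]

/-- Functoriality. -/
noncomputable def coverMap {M M' : EtModW.Mod Λ X} (f : M ⟶ M') : coverObj M ⟶ coverObj M' :=
  Sigma.desc fun i => inj M' i.1.1 (i.1.2 ≫ f)

lemma inj_map {M M' : EtModW.Mod Λ X} (f : M ⟶ M') (W : SmallObj X) (t : ezOf W.1 ⟶ M) :
    inj M W t ≫ coverMap f = inj M' W (t ≫ f) := by
  by_cases h : t = 0
  · simp [h, inj_zero]
  · simp [inj, h, coverMap]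

/-- The projection. -/
noncomputable def coverπ (M : EtModW.Mod Λ X) : coverObj M ⟶ M := Sigma.desc fun i => i.1.2

lemma inj_π (M : EtModW.Mod Λ X) (W : SmallObj X) (t : ezOf W.1 ⟶ M) : inj M W t ≫ coverπ M = t := by
  by_cases h : t = 0
  · simp [h, inj_zero]
  · simp [inj, h, coverπ]

lemma hom_ext_small {M G : EtModW.Mod Λ X} {g h : M ⟶ G}
    (H : ∀ (W : SmallObj X) (t : ezOf W.1 ⟶ M), t ≫ g = t ≫ h) : g = h := by
  have := fun x : X => preservesFiniteLimits_stalkMod (Λ := Λ) (geomPoint x)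
  refine ((Groth.PullModExact.stalk_jointly Λ (X := X)).jointlyFaithful).map_injective fun x => ?_
  let ξ := geomPoint x
  refine (Scheme.pointSmallEtale ξ).presheafFiber_hom_ext fun V t => ?_
  ext m
  choose A hA hzA using fun z : V.left =>
    exists_isAffineOpen_mem_and_subset (U := (⊤ : X.Opens)) (x := V.hom.base z) trivial
  choose N hN hzN hNA using fun z : V.left =>
    exists_isAffineOpen_mem_and_subset (U := V.hom ⁻¹ᵁ A z) (x := z) (hzA z).1
  obtain ⟨z, s, hs⟩ := exists_cover_lift (Scheme.pointSmallEtale ξ) (fun z => openObj V (N z))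
    (fun z => openHom V (N z)) (fun z => ⟨z, ⟨z, hzN z⟩, rfl⟩) t
  let W : SmallObj X := ⟨openObj V (N z), hN z, A z, hA z, by
    rintro _ ⟨w, rfl⟩
    exact hNA z w.2⟩
  letI : AlgebraicGeometry.Etale W.1.hom := W.1.prop
  letI : EtShriek.JCont W.1.hom := Groth.EtaleBase.InjCoh.jCont W.1.hom
  let p : ezObj W.1.hom ⟶ V :=
    MorphismProperty.Over.homMk (𝟙 W.1.left) rfl ≫ openHom V (N z)
  let p' : W.1 ⟶ ezObj W.1.hom :=
    MorphismProperty.Over.homMk (𝟙 W.1.left)
      ((congrArg (fun f => 𝟙 W.1.left ≫ f) (Category.id_comp W.1.hom)).trans (Category.id_comp _))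
  have hp : (Scheme.pointSmallEtale ξ).fiber.map p ((Scheme.pointSmallEtale ξ).fiber.map p' s) = t := by
    rw [← Functor.map_comp_apply, ← hs]
    refine congrArg (fun q => (Scheme.pointSmallEtale ξ).fiber.map q s) ?_
    exact MorphismProperty.Over.Hom.ext ((Category.id_comp _).trans (Category.id_comp _))
  let σ := (M.obj.map p.op).hom m
  have e := congrArg (fun q : ezOf W.1 ⟶ G => (q.hom.app (op (ezObj W.1.hom))).hom (ezSect W.1.hom))
    (H W (ezDesc W.1.hom σ))
  have e' : (g.hom.app (op (ezObj W.1.hom))).hom σ = (h.hom.app (op (ezObj W.1.hom))).hom σ := by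
    have h1 := ezDesc_sect W.1.hom σ
    exact (congrArg (g.hom.app (op (ezObj W.1.hom))).hom h1).symm.trans
      (e.trans (congrArg (h.hom.app (op (ezObj W.1.hom))).hom h1))
  let s' := (Scheme.pointSmallEtale ξ).fiber.map p' s
  have key : ∀ q : M ⟶ G, ((EtModW.stalk Λ ξ).map q).hom ((germM ξ M V t).hom m) =
      (germM ξ G (ezObj W.1.hom) s').hom ((q.hom.app (op (ezObj W.1.hom))).hom σ) := fun q => by
    refine ((Scheme.pointSmallEtale ξ).toPresheafFiber_naturality_apply q.hom V t m).trans ?_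
    rw [← hp]
    refine ((Scheme.pointSmallEtale ξ).toPresheafFiber_w_apply p s' G.obj _).symm.trans ?_
    exact congrArg (germM ξ G _ s').hom (NatTrans.naturality_apply q.hom p.op m).symm
  exact (key g).trans ((congrArg (germM ξ G _ s').hom e').trans (key h).symm)

lemma epi_coverπ (M : EtModW.Mod Λ X) : Epi (coverπ M) :=
  ⟨fun {G} g h e => hom_ext_small fun W t => by
    rw [← inj_π M W t, Category.assoc, Category.assoc, e]⟩

variable (Λ X) in
/-- The cover by sums of sheaves `j_! Λ`. -/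
noncomputable def cover : Groth.DerivedCoh.KFlat.Cover (EtModW.Mod Λ X) where
  P :=
    { obj := coverObj
      map := coverMap
      map_id := fun M => Sigma.hom_ext _ _ fun i => by
        rw [ι_eq_inj, inj_map, Category.comp_id, Category.comp_id]
      map_comp := fun f g => Sigma.hom_ext _ _ fun i => by
        rw [ι_eq_inj, inj_map, ← Category.assoc, ← Category.assoc, inj_map, inj_map] }
  π :=
    { app := coverπ
      naturality := fun M M' f => Sigma.hom_ext _ _ fun i => by
        change _ ≫ coverMap f ≫ coverπ M' = _ ≫ coverπ M ≫ f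
        rw [ι_eq_inj, ← Category.assoc, inj_map, inj_π, ← Category.assoc, inj_π] }
  epi := epi_coverπ
  preservesZero := ⟨fun M M' => Sigma.hom_ext _ _ fun i => by
    change _ ≫ coverMap 0 = _ ≫ 0
    rw [ι_eq_inj, inj_map, comp_zero, comp_zero, inj_zero]⟩

lemma hasFlatStalks_cover (M : EtModW.Mod Λ X) : HasFlatStalks ((cover Λ X).P.obj M) :=
  hasFlatStalks_sigma _ fun i => hasFlatStalks_ezOf i.1.1

end EzCover

section colimits

variable {Λ : Type (u + 1)} [CommRing Λ] {X : Scheme.{u}}

/-- `F ⊗ -` on presheaves, followed by sheafification. -/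
noncomputable abbrev tensPre (F : EtModW.Mod Λ X) :
    (X.Etaleᵒᵖ ⥤ ModuleCat.{u + 1} Λ) ⥤ EtModW.Mod Λ X :=
  tensorLeft F.obj ⋙ presheafToSheaf X.smallEtaleTopology (ModuleCat.{u + 1} Λ)

lemma isIso_tensPre_toSheafify (F : EtModW.Mod Λ X) (Q : X.Etaleᵒᵖ ⥤ ModuleCat.{u + 1} Λ) :
    IsIso ((tensPre F).map (toSheafify X.smallEtaleTopology Q)) := by
  refine (Groth.PullModExact.stalk_jointly Λ (X := X)).isIso_iff _ |>.2 fun x => ?_
  have : HasLimitsOfSize.{u, u} (ModuleCat.{u + 1} Λ) := ModuleCat.hasLimitsOfSize.{u, u, u + 1, u + 1}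
  let p := Scheme.pointSmallEtale (geomPoint x)
  let η := toSheafify X.smallEtaleTopology Q
  have h1 : IsIso (p.presheafFiber.map η) :=
    p.W_isInvertedBy_presheafFiber' _ (X.smallEtaleTopology.W_toSheafify Q)
  have e : p.presheafFiber.map (F.obj ◁ η) ≫
      Functor.OplaxMonoidal.δ (p.presheafFiber (A := ModuleCat.{u + 1} Λ)) _ _ =
      Functor.OplaxMonoidal.δ (p.presheafFiber (A := ModuleCat.{u + 1} Λ)) _ _ ≫
        p.presheafFiber.obj F.obj ◁ p.presheafFiber.map η :=
    (Functor.OplaxMonoidal.δ_natural_right p.presheafFiber F.obj η).symm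
  have h2 : IsIso (p.presheafFiber.map (F.obj ◁ η) ≫
      Functor.OplaxMonoidal.δ (p.presheafFiber (A := ModuleCat.{u + 1} Λ)) _ _) := by
    rw [e]; infer_instance
  have h3 : IsIso (p.presheafFiber.map (F.obj ◁ η)) := IsIso.of_isIso_comp_right _
    (Functor.OplaxMonoidal.δ (p.presheafFiber (A := ModuleCat.{u + 1} Λ)) _ _)
  exact (NatIso.isIso_map_iff (p.presheafToSheafCompSheafFiberIso (ModuleCat.{u + 1} Λ))
    (F.obj ◁ η)).2 h3

/-- Tensoring commutes with sheafification. -/
noncomputable def tensSheafifyIso (F : EtModW.Mod Λ X) :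
    presheafToSheaf X.smallEtaleTopology (ModuleCat.{u + 1} Λ) ⋙ (EtModD.tensorBi Λ X).obj F ≅
      tensPre F :=
  (NatIso.ofComponents (fun Q =>
      @asIso _ _ _ _ ((tensPre F).map (toSheafify X.smallEtaleTopology Q)) (isIso_tensPre_toSheafify F Q))
    (fun {Q Q'} f => by
      refine Eq.trans ?_ (Eq.trans (congrArg (tensPre F).map (toSheafify_naturality X.smallEtaleTopology f))
        ((tensPre F).map_comp _ _))
      exact ((tensPre F).map_comp _ _).symm) :
    tensPre F ≅ presheafToSheaf X.smallEtaleTopology (ModuleCat.{u + 1} Λ) ⋙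
      (EtModD.tensorBi Λ X).obj F).symm

instance preservesColimitsOfShape_nat_tensorBi (F : EtModW.Mod Λ X) :
    PreservesColimitsOfShape ℕ ((EtModD.tensorBi Λ X).obj F) := by
  have : HasColimitsOfSize.{0, 0} (ModuleCat.{u + 1} Λ) :=
    hasColimitsOfSizeShrink.{0, 0, u + 1, u + 1} _
  have h0 : PreservesColimitsOfShape ℕ (tensorLeft F.obj) :=
    preservesColimitsOfShape_of_evaluation _ _ fun V =>
      inferInstanceAs (PreservesColimitsOfShape ℕ
        ((evaluation _ (ModuleCat.{u + 1} Λ)).obj V ⋙ tensorLeft (F.obj.obj V)))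
  have h1 : PreservesColimitsOfShape ℕ (presheafToSheaf X.smallEtaleTopology (ModuleCat.{u + 1} Λ)) :=
    have := (sheafificationAdjunction X.smallEtaleTopology
      (ModuleCat.{u + 1} Λ)).leftAdjoint_preservesColimits.{0, 0}
    inferInstance
  have h2 : PreservesColimitsOfShape ℕ (tensPre F) := inferInstance
  have h3 : PreservesColimitsOfShape ℕ (presheafToSheaf X.smallEtaleTopology (ModuleCat.{u + 1} Λ) ⋙
      (EtModD.tensorBi Λ X).obj F) := preservesColimitsOfShape_of_natIso (tensSheafifyIso F).symm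
  refine ⟨fun {D} => ?_⟩
  let E := D ⋙ sheafToPresheaf X.smallEtaleTopology (ModuleCat.{u + 1} Λ)
  have : PreservesColimit (E ⋙ presheafToSheaf X.smallEtaleTopology (ModuleCat.{u + 1} Λ))
      ((EtModD.tensorBi Λ X).obj F) :=
    preservesColimit_of_preserves_colimit_cocone
      (isColimitOfPreserves (presheafToSheaf X.smallEtaleTopology (ModuleCat.{u + 1} Λ))
        (colimit.isColimit E))
      (isColimitOfPreserves (presheafToSheaf X.smallEtaleTopology (ModuleCat.{u + 1} Λ) ⋙
        (EtModD.tensorBi Λ X).obj F) (colimit.isColimit E))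
  exact preservesColimit_of_iso_diagram _
    (Functor.associator D _ _ ≪≫
      Functor.isoWhiskerLeft D (sheafificationNatIso X.smallEtaleTopology (ModuleCat.{u + 1} Λ)).symm ≪≫
      D.rightUnitor)

/-- Commutation of the tensor product. -/
noncomputable def tensFlipIso (F : EtModW.Mod Λ X) :
    (EtModD.tensorBi Λ X).obj F ≅ (EtModD.tensorBi Λ X).flip.obj F :=
  Functor.isoWhiskerLeft (sheafToPresheaf X.smallEtaleTopology (ModuleCat.{u + 1} Λ))
    (Functor.isoWhiskerRight (BraidedCategory.tensorLeftIsoTensorRight F.obj)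
      (presheafToSheaf X.smallEtaleTopology (ModuleCat.{u + 1} Λ)))

instance preservesColimitsOfShape_nat_tensorBi_flip (F : EtModW.Mod Λ X) :
    PreservesColimitsOfShape ℕ ((EtModD.tensorBi Λ X).flip.obj F) :=
  preservesColimitsOfShape_of_natIso (tensFlipIso F)

end colimits

end Groth.EtaleSGA5
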