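import Groth.Agent.EtaleDeep.Cons.StalkMod
import Groth.Agent.EtaleDeep.Cons.PullMod
import Groth.Agent.EtaleBase.PushStalkInt
import Groth.Prelude.Def_EtModD2
import Mathlib.CategoryTheory.Sites.Point.Monoidal
import Mathlib.Algebra.Category.ModuleCat.Monoidal.Closed
import Mathlib.LinearAlgebra.TensorProduct.Finiteness

/-!
# Tensor products of locally constant and constructible sheaves of modules
-/

set_option autoImplicit false
set_option backward.isDefEq.respectTransparency.types false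
set_option linter.style.haveILetI false

universe u

open CategoryTheory CategoryTheory.Limits AlgebraicGeometry Opposite MonoidalCategory TensorProduct

namespace Groth.EtaleSGA5

open Groth.EtaleBase Groth.EtaleBase.LocConst Groth.EtaleDeep.Cons

variable (Λ : Type (u + 1)) [CommRing Λ]

instance hasColimitsOfSize_modSmall : HasColimitsOfSize.{u, u} (ModuleCat.{u + 1} Λ) :=
  hasColimitsOfSizeShrink.{u, u, u + 1, u + 1} _

instance preservesFilteredColimits_tensorLeft_modSmall (M : ModuleCat.{u + 1} Λ) :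
    PreservesFilteredColimitsOfSize.{u, u} (tensorLeft M) :=
  ⟨fun _ _ _ => inferInstance⟩

instance preservesFilteredColimits_tensorRight_modSmall (M : ModuleCat.{u + 1} Λ) :
    PreservesFilteredColimitsOfSize.{u, u} (tensorRight M) :=
  ⟨fun _ _ _ => preservesColimitsOfShape_of_natIso (BraidedCategory.tensorLeftIsoTensorRight M)⟩

instance preservesFilteredColimits_forget_modSmall :
    PreservesFilteredColimitsOfSize.{u, u} (forget (ModuleCat.{u + 1} Λ)) :=
  preservesFilteredColimitsOfSize_shrink.{u, u + 1, u, u + 1} _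

variable {Λ} {X : Scheme.{u}}

/-- The tensor product of two sheaves of modules. -/
noncomputable abbrev tens (F G : EtModW.Mod Λ X) : EtModW.Mod Λ X :=
  ((EtModD.tensorBi Λ X).obj F).obj G

/-- The map from the presheaf tensor product to the tensor product sheaf. -/
noncomputable abbrev toTens (F G : EtModW.Mod Λ X) : F.obj ⊗ G.obj ⟶ (tens F G).obj :=
  CategoryTheory.toSheafify X.smallEtaleTopology (F.obj ⊗ G.obj)

section stalk

variable {Ω : Type u} [Field Ω] [IsSepClosed Ω] (ξ : Spec (CommRingCat.of Ω) ⟶ X)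

lemma isIso_presheafFiber_toTens (F G : EtModW.Mod Λ X) :
    IsIso ((Scheme.pointSmallEtale ξ).presheafFiber.map (toTens F G)) :=
  (Scheme.pointSmallEtale ξ).W_isInvertedBy_presheafFiber' _
    (X.smallEtaleTopology.W_toSheafify (F.obj ⊗ G.obj))

/-- The stalk of a tensor product. -/
noncomputable def stalkTens (F G : EtModW.Mod Λ X) :
    (EtModW.stalk Λ ξ).obj (tens F G) ≅ (EtModW.stalk Λ ξ).obj F ⊗ (EtModW.stalk Λ ξ).obj G :=
  letI := isIso_presheafFiber_toTens ξ F G
  have hδ : IsIso (Functor.OplaxMonoidal.δ ((Scheme.pointSmallEtale ξ).presheafFiber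
    (A := ModuleCat.{u + 1} Λ)) F.obj G.obj) := inferInstance
  (asIso ((Scheme.pointSmallEtale ξ).presheafFiber.map (toTens F G))).symm ≪≫
    @asIso _ _ _ _ (Functor.OplaxMonoidal.δ ((Scheme.pointSmallEtale ξ).presheafFiber
      (A := ModuleCat.{u + 1} Λ)) F.obj G.obj) hδ

lemma presheafFiber_map_toTens_stalkTens (F G : EtModW.Mod Λ X) :
    (Scheme.pointSmallEtale ξ).presheafFiber.map (toTens F G) ≫ (stalkTens ξ F G).hom =
      Functor.OplaxMonoidal.δ (Scheme.pointSmallEtale ξ).presheafFiber F.obj G.obj := by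
  have := isIso_presheafFiber_toTens ξ F G
  exact IsIso.hom_inv_id_assoc _ _

lemma germM_stalkTens (F G : EtModW.Mod Λ X) (U : X.Etale)
    (t : (Scheme.pointSmallEtale ξ).fiber.obj U) :
    (toTens F G).app (op U) ≫ germM ξ (tens F G) U t ≫ (stalkTens ξ F G).hom =
      germM ξ F U t ⊗ₘ germM ξ G U t := by
  erw [← (Scheme.pointSmallEtale ξ).toPresheafFiber_naturality_assoc (toTens F G) U t]
  erw [presheafFiber_map_toTens_stalkTens]
  exact (Scheme.pointSmallEtale ξ).toPresheafFiber_δ U t F.obj G.obj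

lemma germM_stalkTens_tmul (F G : EtModW.Mod Λ X) (U : X.Etale)
    (t : (Scheme.pointSmallEtale ξ).fiber.obj U) (a : EtModW.sect Λ F U) (b : EtModW.sect Λ G U) :
    (stalkTens ξ F G).hom.hom ((germM ξ (tens F G) U t).hom
        (((toTens F G).app (op U)).hom (a ⊗ₜ[Λ] b))) =
      (germM ξ F U t).hom a ⊗ₜ[Λ] (germM ξ G U t).hom b :=
  ConcreteCategory.congr_hom (germM_stalkTens ξ F G U t) (a ⊗ₜ[Λ] b)

/-- Germs of stalkwise bijective sections are bijective. -/
lemma bijective_germM_of_stalkBijM {F : EtModW.Mod Λ X} {U : X.Etale} {M : Type (u + 1)}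
    [AddCommGroup M] [Module Λ M] {s : M →ₗ[Λ] EtModW.sect Λ F U} (hs : StalkBijM F U s)
    (t : (Scheme.pointSmallEtale ξ).fiber.obj U) :
    Function.Bijective ((germM ξ F U t).hom ∘ₗ s) := by
  obtain ⟨e, he⟩ := exists_stalk_forget ξ F
  have h : ⇑((germM ξ F U t).hom ∘ₗ s) =
      e.hom ∘ fun a => germ ξ ((toAb Λ X).obj F) U t (s a) := funext fun a => (he U t (s a)).symm
  exact (congrArg Function.Bijective h).mpr
    (((ConcreteCategory.isIso_iff_bijective e.hom).1 inferInstance).comp (hs Ω _ _ ξ t))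

lemma bijective_germ_of_germM {F : EtModW.Mod Λ X} {U : X.Etale} {M : Type (u + 1)}
    [AddCommGroup M] [Module Λ M] {s : M →ₗ[Λ] EtModW.sect Λ F U}
    (t : (Scheme.pointSmallEtale ξ).fiber.obj U)
    (hs : Function.Bijective ((germM ξ F U t).hom ∘ₗ s)) :
    Function.Bijective fun a => germ ξ ((toAb Λ X).obj F) U t (s a) := by
  obtain ⟨e, he⟩ := exists_stalk_forget ξ F
  have h : ⇑((germM ξ F U t).hom ∘ₗ s) =
      e.hom ∘ fun a => germ ξ ((toAb Λ X).obj F) U t (s a) := funext fun a => (he U t (s a)).symm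
  exact (Function.Bijective.of_comp_iff' ((ConcreteCategory.isIso_iff_bijective e.hom).1 inferInstance) _).1
    ((congrArg Function.Bijective h).mp hs)

end stalk

/-- Tensor products of trivializing sections are trivializing. -/
theorem stalkBijM_tensor {F G : EtModW.Mod Λ X} {U : X.Etale} {M N : Type (u + 1)} [AddCommGroup M]
    [Module Λ M] [AddCommGroup N] [Module Λ N] {s : M →ₗ[Λ] EtModW.sect Λ F U}
    {s' : N →ₗ[Λ] EtModW.sect Λ G U} (hs : StalkBijM F U s) (hs' : StalkBijM G U s') :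
    StalkBijM (tens F G) U (((toTens F G).app (op U)).hom ∘ₗ TensorProduct.map s s') := by
  intro Ω _ _ ξ t
  let L : M ⊗[Λ] N →ₗ[Λ] EtModW.sect Λ (tens F G) U :=
    ((toTens F G).app (op U)).hom ∘ₗ TensorProduct.map s s'
  refine bijective_germ_of_germM ξ (s := L) t ?_
  let K : EtModW.sect Λ (tens F G) U →ₗ[Λ]
      TensorProduct Λ ((EtModW.stalk Λ ξ).obj F) ((EtModW.stalk Λ ξ).obj G) :=
    ((germM ξ (tens F G) U t) ≫ (stalkTens ξ F G).hom).hom
  have h : K ∘ₗ L = TensorProduct.map ((germM ξ F U t).hom ∘ₗ s) ((germM ξ G U t).hom ∘ₗ s') :=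
    TensorProduct.ext' fun a b => germM_stalkTens_tmul ξ F G U t (s a) (s' b)
  have hb : Function.Bijective (TensorProduct.map ((germM ξ F U t).hom ∘ₗ s) ((germM ξ G U t).hom ∘ₗ s')) := by
    have h1 := bijective_germM_of_stalkBijM ξ hs t
    have h2 := bijective_germM_of_stalkBijM ξ hs' t
    exact (TensorProduct.congr (LinearEquiv.ofBijective _ h1) (LinearEquiv.ofBijective _ h2)).bijective
  have hKL : Function.Bijective (K ∘ₗ L) := by rw [h]; exact hb
  exact (Function.Bijective.of_comp_iff' (stalkTens ξ F G).toLinearEquiv.bijective _).1 hKL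

/-- Tensor products of finite type locally constant sheaves. -/
theorem isFT_tens {F G : EtModW.Mod Λ X} (hF : EtModW.IsFTLocConst Λ F)
    (hG : EtModW.IsFTLocConst Λ G) : EtModW.IsFTLocConst Λ (tens F G) := by
  rw [isFT_iff]
  intro x
  let ξ := geomPoint x
  obtain ⟨U, ⟨y, hy⟩, M, _, _, hM, s, hs⟩ := isFT_iff.1 hF x
  obtain ⟨U', ⟨y', hy'⟩, N, _, _, hN, s', hs'⟩ := isFT_iff.1 hG x
  obtain ⟨t, -⟩ := exists_fiber_of_point ξ U y (hy.trans (geomPoint_apply _ _).symm)
  obtain ⟨t', -⟩ := exists_fiber_of_point ξ U' y' (hy'.trans (geomPoint_apply _ _).symm)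
  obtain ⟨W, g, g', w, -, -⟩ := exists_common ξ U U' t t'
  exact ⟨W, ⟨_, (hom_fiberPoint ξ w).trans (geomPoint_apply _ _)⟩, M ⊗[Λ] N, inferInstance,
    inferInstance, inferInstance, _, stalkBijM_tensor (hs.res g) (hs'.res g')⟩

section pull

variable {Y : Scheme.{u}} (f : X ⟶ Y) {Ω : Type u} [Field Ω] [IsSepClosed Ω]
  (ξ : Spec (CommRingCat.of Ω) ⟶ X)

/-- The comparison of the stalk of a sheaf with the stalk of its inverse image, on germs. -/
noncomputable def pullStalkHom (F : EtModW.Mod Λ Y) :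
    (EtModW.stalk Λ (ξ ≫ f)).obj F ⟶ (EtModW.stalk Λ ξ).obj ((EtModW.pull Λ f).obj F) :=
  (Scheme.pointSmallEtale (ξ ≫ f)).presheafFiberDesc
    (fun V s => ((FixPt.pullPushAdj (Λ := Λ) f).unit.app F).hom.app (op V) ≫
      germM ξ ((EtModW.pull Λ f).obj F) ((EtCoh.bc f).obj V) (pushLift f ξ rfl V s))
    (by
      intro W V j s
      erw [← Category.assoc, ((FixPt.pullPushAdj (Λ := Λ) f).unit.app F).hom.naturality j.op]
      rw [Category.assoc, ← pushLift_map f ξ rfl j s]
      exact congrArg _ ((Scheme.pointSmallEtale ξ).toPresheafFiber_w ((EtCoh.bc f).map j)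
        (pushLift f ξ rfl W s) ((EtModW.pull Λ f).obj F).obj))

lemma germM_pullStalkHom (F : EtModW.Mod Λ Y) (V : Y.Etale)
    (s : (Scheme.pointSmallEtale (ξ ≫ f)).fiber.obj V) :
    germM (ξ ≫ f) F V s ≫ pullStalkHom f ξ F =
      ((FixPt.pullPushAdj (Λ := Λ) f).unit.app F).hom.app (op V) ≫
        germM ξ ((EtModW.pull Λ f).obj F) ((EtCoh.bc f).obj V) (pushLift f ξ rfl V s) :=
  (Scheme.pointSmallEtale (ξ ≫ f)).toPresheafFiber_presheafFiberDesc _ _ _ _

lemma bijective_pullStalkHom (F : EtModW.Mod Λ Y) :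
    Function.Bijective (pullStalkHom f ξ F).hom := by
  obtain ⟨eY, heY⟩ := exists_stalk_forget (ξ ≫ f) F
  obtain ⟨eX, heX⟩ := exists_stalk_forget ξ ((EtModW.pull Λ f).obj F)
  have := isIso_cmpPull Λ f F
  let m := (stalkPullIso f ξ).app ((toAb Λ Y).obj F) ≪≫
    (EtCoh.stalk ξ).mapIso (asIso ((cmpPull Λ f).app F)) ≪≫ eX
  have hm : ⇑(pullStalkHom f ξ F).hom = fun a => m.hom (eY.inv a) := by
    funext a
    obtain ⟨V, s, σ, rfl⟩ := (Scheme.pointSmallEtale (ξ ≫ f)).toPresheafFiber_jointly_surjective a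
    refine (ConcreteCategory.congr_hom (germM_pullStalkHom f ξ F V s) σ).trans ?_
    have h0 : eY.inv ((germM (ξ ≫ f) F V s).hom σ) = germ (ξ ≫ f) ((toAb Λ Y).obj F) V s σ := by
      rw [← heY V s σ]; exact Iso.hom_inv_id_apply eY _
    refine Eq.trans ?_ (congrArg (fun z => m.hom z) h0).symm
    refine Eq.symm ?_
    refine (congrArg (fun z => eX.hom ((EtCoh.stalk ξ).map ((cmpPull Λ f).app F) z))
      (stalkPullIso_germ f ξ ((toAb Λ Y).obj F) V s σ)).trans ?_
    refine (congrArg eX.hom (germ_map ξ ((cmpPull Λ f).app F) _ _ _)).trans ?_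
    refine (heX _ _ _).trans (congrArg _ ?_)
    exact ConcreteCategory.congr_hom
      (congrArg (fun q : (toAb Λ Y).obj F ⟶ (EtCoh.push f).obj ((toAb Λ X).obj ((EtModW.pull Λ f).obj F)) =>
        q.hom.app (op V)) (unit_cmpPull Λ f F)) σ
  rw [hm]
  exact ((ConcreteCategory.isIso_iff_bijective m.hom).1 inferInstance).comp
    ((ConcreteCategory.isIso_iff_bijective eY.inv).1 inferInstance)

end pull

section cmp

variable {Y : Scheme.{u}} (f : X ⟶ Y) (F G : EtModW.Mod Λ Y)

/-- The presheaf map underlying the comparison of tensor products and inverse images. -/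
noncomputable def pullTensPre :
    F.obj ⊗ G.obj ⟶ ((EtModW.push Λ f).obj
      (tens ((EtModW.pull Λ f).obj F) ((EtModW.pull Λ f).obj G))).obj where
  app V := (((FixPt.pullPushAdj (Λ := Λ) f).unit.app F).hom.app V ⊗ₘ
      ((FixPt.pullPushAdj (Λ := Λ) f).unit.app G).hom.app V) ≫
    (toTens ((EtModW.pull Λ f).obj F) ((EtModW.pull Λ f).obj G)).app (op ((EtCoh.bc f).obj V.unop))
  naturality V W j := by
    have h := (((FixPt.pullPushAdj (Λ := Λ) f).unit.app F).hom ⊗ₘ
      ((FixPt.pullPushAdj (Λ := Λ) f).unit.app G).hom).naturality j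
    have h' := (toTens ((EtModW.pull Λ f).obj F) ((EtModW.pull Λ f).obj G)).naturality
      ((EtCoh.bc f).map j.unop).op
    exact (reassoc_of% h) _ |>.trans
      ((congrArg (_ ≫ ·) h').trans (Category.assoc _ _ _).symm)

/-- The comparison `f*(F ⊗ G) → f*F ⊗ f*G`. -/
noncomputable def pullTens :
    (EtModW.pull Λ f).obj (tens F G) ⟶ tens ((EtModW.pull Λ f).obj F) ((EtModW.pull Λ f).obj G) :=
  ((FixPt.pullPushAdj (Λ := Λ) f).homEquiv _ _).symm
    (((sheafificationAdjunction Y.smallEtaleTopology (ModuleCat.{u + 1} Λ)).homEquiv _ _).symm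
      (pullTensPre f F G))

lemma toTens_unit_pullTens :
    toTens F G ≫ ((FixPt.pullPushAdj (Λ := Λ) f).unit.app (tens F G) ≫
      (EtModW.push Λ f).map (pullTens f F G)).hom = pullTensPre f F G := by
  have e : (FixPt.pullPushAdj (Λ := Λ) f).unit.app (tens F G) ≫ (EtModW.push Λ f).map (pullTens f F G) =
      ((sheafificationAdjunction Y.smallEtaleTopology (ModuleCat.{u + 1} Λ)).homEquiv _ _).symm
        (pullTensPre f F G) :=
    ((FixPt.pullPushAdj (Λ := Λ) f).homEquiv_unit _ _ _).symm.trans (Equiv.apply_symm_apply _ _)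
  refine (congrArg (fun q => toTens F G ≫ q.hom) e).trans ?_
  exact ((sheafificationAdjunction Y.smallEtaleTopology (ModuleCat.{u + 1} Λ)).homEquiv_unit _ _ _).symm.trans
    (Equiv.apply_symm_apply _ _)

lemma pullStalkHom_pullTens {Ω : Type u} [Field Ω] [IsSepClosed Ω]
    (ξ : Spec (CommRingCat.of Ω) ⟶ X) :
    pullStalkHom f ξ (tens F G) ≫ (EtModW.stalk Λ ξ).map (pullTens f F G) ≫
        (stalkTens ξ ((EtModW.pull Λ f).obj F) ((EtModW.pull Λ f).obj G)).hom =
      (stalkTens (ξ ≫ f) F G).hom ≫ (pullStalkHom f ξ F ⊗ₘ pullStalkHom f ξ G) := by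
  have := isIso_presheafFiber_toTens (ξ ≫ f) F G
  refine (cancel_epi ((Scheme.pointSmallEtale (ξ ≫ f)).presheafFiber.map (toTens F G))).1 ?_
  refine (Scheme.pointSmallEtale (ξ ≫ f)).presheafFiber_hom_ext fun V s => ?_
  erw [reassoc_of% (presheafFiber_map_toTens_stalkTens (ξ ≫ f) F G),
    (Scheme.pointSmallEtale (ξ ≫ f)).toPresheafFiber_δ_assoc,
    (Scheme.pointSmallEtale (ξ ≫ f)).toPresheafFiber_naturality_assoc,
    reassoc_of% (germM_pullStalkHom f ξ (tens F G) V s)]
  erw [(Scheme.pointSmallEtale ξ).toPresheafFiber_naturality_assoc]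
  have h := congrArg (fun q => q.app (op V)) (toTens_unit_pullTens f F G)
  refine Eq.trans (congrArg (fun q => q ≫ germM ξ _ _ (pushLift f ξ rfl V s) ≫
    (stalkTens ξ ((EtModW.pull Λ f).obj F) ((EtModW.pull Λ f).obj G)).hom) h) ?_
  refine (Category.assoc _ _ _).trans ?_
  refine (congrArg (_ ≫ ·) (germM_stalkTens ξ ((EtModW.pull Λ f).obj F)
    ((EtModW.pull Λ f).obj G) _ (pushLift f ξ rfl V s))).trans ?_
  erw [tensorHom_comp_tensorHom, tensorHom_comp_tensorHom]
  rw [← germM_pullStalkHom, ← germM_pullStalkHom]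
  rfl

theorem isIso_pullTens : IsIso (pullTens f F G) := by
  refine (PullModExact.stalk_jointly Λ).isIso_iff _ |>.2 fun x => ?_
  let ξ := geomPoint x
  have h1 : ∀ H : EtModW.Mod Λ Y, IsIso (pullStalkHom f ξ H) := fun H =>
    (ConcreteCategory.isIso_iff_bijective _).2 (bijective_pullStalkHom f ξ H)
  have := h1 F; have := h1 G; have := h1 (tens F G)
  have h2 : IsIso (pullStalkHom f ξ (tens F G) ≫ (EtModW.stalk Λ ξ).map (pullTens f F G) ≫
      (stalkTens ξ ((EtModW.pull Λ f).obj F) ((EtModW.pull Λ f).obj G)).hom) := by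
    rw [pullStalkHom_pullTens f F G ξ]; infer_instance
  have h3 := IsIso.of_isIso_comp_left (pullStalkHom f ξ (tens F G))
    ((EtModW.stalk Λ ξ).map (pullTens f F G) ≫
      (stalkTens ξ ((EtModW.pull Λ f).obj F) ((EtModW.pull Λ f).obj G)).hom)
  exact IsIso.of_isIso_comp_right ((EtModW.stalk Λ ξ).map (pullTens f F G))
    (stalkTens ξ ((EtModW.pull Λ f).obj F) ((EtModW.pull Λ f).obj G)).hom

end cmp

/-- Tensor products of constructible sheaves. -/
theorem isConstructible_tens {F G : EtModW.Mod Λ X} (hF : EtModW.IsConstructible Λ F)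
    (hG : EtModW.IsConstructible Λ G) : EtModW.IsConstructible Λ (tens F G) :=
  (isConstructibleMod_iff _).2 <| (IsCons.inter (stable_FTOn F) (stable_FTOn G)
    ((isConstructibleMod_iff _).1 hF) ((isConstructibleMod_iff _).1 hG)).mono fun _ g hg => by
      have := isIso_pullTens g F G
      exact isFT_of_iso (asIso (pullTens g F G)).symm (isFT_tens hg.1 hg.2)

end Groth.EtaleSGA5
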