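import Groth.Agent.EtaleDeep.Cons.ARSystems
import Groth.Agent.EtaleSGA5.TensorLC
import Groth.Agent.EtaleSGA5.ExtZeroResolution
import Groth.Agent.DerivedCoh.KFlat.Generic
import Mathlib.Algebra.Category.ModuleCat.Products
import Mathlib.RingTheory.Flat.CategoryTheory
import Mathlib.CategoryTheory.Functor.ReflectsIso.Exact

/-!
# Sheaves of modules with flat stalks
-/

set_option autoImplicit false
set_option backward.isDefEq.respectTransparency.types false
set_option linter.style.haveILetI false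

universe u

open CategoryTheory CategoryTheory.Limits AlgebraicGeometry Opposite MonoidalCategory

namespace Groth.EtaleSGA5

open Groth.EtaleBase Groth.EtaleBase.LocConst Groth.EtaleDeep.Cons

variable {Λ : Type (u + 1)} [CommRing Λ] {X : Scheme.{u}}

section natural

variable {Ω : Type u} [Field Ω] [IsSepClosed Ω] (ξ : Spec (CommRingCat.of Ω) ⟶ X)

lemma stalkTens_natural_right (F : EtModW.Mod Λ X) {G G' : EtModW.Mod Λ X} (ψ : G ⟶ G') :
    (EtModW.stalk Λ ξ).map (((EtModD.tensorBi Λ X).obj F).map ψ) ≫ (stalkTens ξ F G').hom =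
      (stalkTens ξ F G).hom ≫ (EtModW.stalk Λ ξ).obj F ◁ (EtModW.stalk Λ ξ).map ψ := by
  have := isIso_presheafFiber_toTens ξ F G
  have e : toTens F G ≫ (((EtModD.tensorBi Λ X).obj F).map ψ).hom = (F.obj ◁ ψ.hom) ≫ toTens F G' :=
    (toSheafify_naturality _ _).symm
  refine (cancel_epi ((Scheme.pointSmallEtale ξ).presheafFiber.map (toTens F G))).1 ?_
  refine Eq.trans ((Category.assoc _ _ _).symm.trans ?_) ((reassoc_of% (presheafFiber_map_toTens_stalkTens ξ F G)) _).symm
  refine (congrArg (fun q => q ≫ (stalkTens ξ F G').hom)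
    ((((Scheme.pointSmallEtale ξ).presheafFiber (A := ModuleCat.{u + 1} Λ)).map_comp _ _).symm.trans
      ((congrArg (Scheme.pointSmallEtale ξ).presheafFiber.map e).trans
        (((Scheme.pointSmallEtale ξ).presheafFiber (A := ModuleCat.{u + 1} Λ)).map_comp _ _)))).trans ?_
  refine (Category.assoc _ _ _).trans ?_
  refine (congrArg (_ ≫ ·) (presheafFiber_map_toTens_stalkTens ξ F G')).trans ?_
  exact (Functor.OplaxMonoidal.δ_natural_right
    (Scheme.pointSmallEtale ξ).presheafFiber F.obj ψ.hom).symm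

lemma stalkTens_natural_left {F F' : EtModW.Mod Λ X} (φ : F ⟶ F') (G : EtModW.Mod Λ X) :
    (EtModW.stalk Λ ξ).map (((EtModD.tensorBi Λ X).map φ).app G) ≫ (stalkTens ξ F' G).hom =
      (stalkTens ξ F G).hom ≫ (EtModW.stalk Λ ξ).map φ ▷ (EtModW.stalk Λ ξ).obj G := by
  have := isIso_presheafFiber_toTens ξ F G
  have e : toTens F G ≫ (((EtModD.tensorBi Λ X).map φ).app G).hom = (φ.hom ▷ G.obj) ≫ toTens F' G :=
    (toSheafify_naturality _ _).symm
  refine (cancel_epi ((Scheme.pointSmallEtale ξ).presheafFiber.map (toTens F G))).1 ?_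
  refine Eq.trans ((Category.assoc _ _ _).symm.trans ?_) ((reassoc_of% (presheafFiber_map_toTens_stalkTens ξ F G)) _).symm
  refine (congrArg (fun q => q ≫ (stalkTens ξ F' G).hom)
    ((((Scheme.pointSmallEtale ξ).presheafFiber (A := ModuleCat.{u + 1} Λ)).map_comp _ _).symm.trans
      ((congrArg (Scheme.pointSmallEtale ξ).presheafFiber.map e).trans
        (((Scheme.pointSmallEtale ξ).presheafFiber (A := ModuleCat.{u + 1} Λ)).map_comp _ _)))).trans ?_
  refine (Category.assoc _ _ _).trans ?_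
  refine (congrArg (_ ≫ ·) (presheafFiber_map_toTens_stalkTens ξ F' G)).trans ?_
  exact (Functor.OplaxMonoidal.δ_natural_left
    (Scheme.pointSmallEtale ξ).presheafFiber φ.hom G.obj).symm

/-- Stalks of `F ⊗ -`. -/
noncomputable def stalkTensLeftIso (F : EtModW.Mod Λ X) :
    (EtModD.tensorBi Λ X).obj F ⋙ EtModW.stalk Λ ξ ≅
      EtModW.stalk Λ ξ ⋙ tensorLeft ((EtModW.stalk Λ ξ).obj F) :=
  NatIso.ofComponents (stalkTens ξ F) fun ψ => stalkTens_natural_right ξ F ψ

/-- Stalks of `- ⊗ G`. -/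
noncomputable def stalkTensRightIso (G : EtModW.Mod Λ X) :
    (EtModD.tensorBi Λ X).flip.obj G ⋙ EtModW.stalk Λ ξ ≅
      EtModW.stalk Λ ξ ⋙ tensorRight ((EtModW.stalk Λ ξ).obj G) :=
  NatIso.ofComponents (fun F => stalkTens ξ F G) fun φ => stalkTens_natural_left ξ φ G

end natural

/-- All stalks are flat. -/
def HasFlatStalks (M : EtModW.Mod Λ X) : Prop :=
  ∀ (Ω : Type u) [Field Ω] [IsSepClosed Ω] (ξ : Spec (CommRingCat.of Ω) ⟶ X),
    Module.Flat Λ ((EtModW.stalk Λ ξ).obj M)

lemma HasFlatStalks.of_iso {M M' : EtModW.Mod Λ X} (h : HasFlatStalks M) (e : M ≅ M') :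
    HasFlatStalks M' := fun Ω _ _ ξ =>
  have := h Ω ξ
  Module.Flat.of_linearEquiv ((EtModW.stalk Λ ξ).mapIso e).toLinearEquiv.symm

lemma hasFlatStalks_of_isZero {M : EtModW.Mod Λ X} (h : IsZero M) : HasFlatStalks M :=
  fun Ω _ _ ξ => by
    have := additive_stalkMod (Λ := Λ) ξ
    have : Subsingleton ((EtModW.stalk Λ ξ).obj M) :=
      ModuleCat.subsingleton_of_isZero ((EtModW.stalk Λ ξ).map_isZero h)
    infer_instance

lemma hasFlatStalks_sigma {ι : Type (u + 1)} (N : ι → EtModW.Mod Λ X) (h : ∀ i, HasFlatStalks (N i)) :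
    HasFlatStalks (∐ N) := fun Ω _ _ ξ => by
  classical
  have : ∀ i, Module.Flat Λ ((EtModW.stalk Λ ξ).obj (N i)) := fun i => h i Ω ξ
  have : HasProductsOfShape.{u} PUnit (ModuleCat.{u + 1} Λ) := inferInstance
  have : HasLimitsOfSize.{u, u} (ModuleCat.{u + 1} Λ) := ModuleCat.hasLimitsOfSize.{u, u, u + 1, u + 1}
  have : PreservesColimitsOfSize.{u + 1, u + 1} (EtModW.stalk Λ ξ) :=
    ((Scheme.pointSmallEtale ξ).skyscraperSheafAdjunction
      (A := ModuleCat.{u + 1} Λ)).leftAdjoint_preservesColimits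
  exact Module.Flat.of_linearEquiv (PreservesCoproduct.iso (EtModW.stalk Λ ξ) N ≪≫
    ModuleCat.coprodIsoDirectSum.{u + 1, u + 1, u + 1} fun i => (EtModW.stalk Λ ξ).obj (N i)).toLinearEquiv

lemma hasFlatStalks_sigma₀ (ι : Type) (N : ι → EtModW.Mod Λ X) (h : ∀ i, HasFlatStalks (N i)) :
    HasFlatStalks (∐ N) :=
  (hasFlatStalks_sigma (fun i : ULift.{u + 1} ι => N i.down) fun i => h i.down).of_iso
    (Limits.Sigma.whiskerEquiv (f := fun i : ULift.{u + 1} ι => N i.down) (g := N)
      Equiv.ulift fun _ => Iso.refl _)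

theorem shortExact_tensorLeft_flat (M : ModuleCat.{u + 1} Λ) [Module.Flat Λ M]
    {S : ShortComplex (ModuleCat.{u + 1} Λ)} (hS : S.ShortExact) : (S.map (tensorLeft M)).ShortExact := by
  have := hS.mono_f
  have := hS.epi_g
  exact hS.map (tensorLeft M)

/-- Tensoring with a sheaf with flat stalks is exact. -/
theorem flat_of_hasFlatStalks {N : EtModW.Mod Λ X} (h : HasFlatStalks N) :
    Groth.DerivedCoh.KFlat.Flat (EtModD.tensorBi Λ X) N := fun S hS => by
  have := fun x : X => preservesFiniteLimits_stalkMod (Λ := Λ) (geomPoint x)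
  have := fun x : X => preservesFiniteColimits_stalkMod (Λ := Λ) (geomPoint x)
  have := fun x : X => additive_stalkMod (Λ := Λ) (geomPoint x)
  rw [(Groth.PullModExact.stalk_jointly Λ (X := X)).shortExact_iff] at hS ⊢
  intro x
  have := h _ (geomPoint x)
  let W := (EtModW.stalk Λ (geomPoint x)).obj N
  have h1 : ((S.map (EtModW.stalk Λ (geomPoint x))).map (tensorRight W)).ShortExact :=
    ShortComplex.shortExact_of_iso
      (ShortComplex.mapNatIso _ (BraidedCategory.tensorLeftIsoTensorRight W))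
      (shortExact_tensorLeft_flat W (hS x))
  exact ShortComplex.shortExact_of_iso (S.mapNatIso (stalkTensRightIso (geomPoint x) N)).symm h1

/-- Tensoring with a sheaf with flat stalks is exact. -/
theorem flat_flip_of_hasFlatStalks {N : EtModW.Mod Λ X} (h : HasFlatStalks N) :
    Groth.DerivedCoh.KFlat.Flat (EtModD.tensorBi Λ X).flip N := fun S hS => by
  have := fun x : X => preservesFiniteLimits_stalkMod (Λ := Λ) (geomPoint x)
  have := fun x : X => preservesFiniteColimits_stalkMod (Λ := Λ) (geomPoint x)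
  have := fun x : X => additive_stalkMod (Λ := Λ) (geomPoint x)
  rw [(Groth.PullModExact.stalk_jointly Λ (X := X)).shortExact_iff] at hS ⊢
  intro x
  have := h _ (geomPoint x)
  exact ShortComplex.shortExact_of_iso (S.mapNatIso (stalkTensLeftIso (geomPoint x) N)).symm
    (shortExact_tensorLeft_flat ((EtModW.stalk Λ (geomPoint x)).obj N) (hS x))

section const

attribute [local instance] IsFiltered.isConnected in
/-- Stalks of constant sheaves. -/
theorem nonempty_stalk_constMod_iso {Ω : Type u} [Field Ω] [IsSepClosed Ω]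
    (ξ : Spec (CommRingCat.of Ω) ⟶ X) (M : ModuleCat.{u + 1} Λ) :
    Nonempty ((EtModW.stalk Λ ξ).obj ((constantSheaf X.smallEtaleTopology (ModuleCat.{u + 1} Λ)).obj M) ≅ M) :=
  have : HasLimitsOfSize.{u, u} (ModuleCat.{u + 1} Λ) := ModuleCat.hasLimitsOfSize.{u, u, u + 1, u + 1}
  have : HasProductsOfShape.{u} PUnit (ModuleCat.{u + 1} Λ) := inferInstance
  ⟨((Scheme.pointSmallEtale ξ).presheafToSheafCompSheafFiberIso (ModuleCat.{u + 1} Λ)).app _ ≪≫
    (IsColimit.coconePointUniqueUpToIso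
      ((Scheme.pointSmallEtale ξ).isColimitPresheafFiberCocone ((Functor.const X.Etaleᵒᵖ).obj M))
      (isColimitConstCocone (Scheme.pointSmallEtale ξ).fiber.Elementsᵒᵖ M))⟩

lemma hasFlatStalks_constΛ : HasFlatStalks (EtSix.constΛ Λ X) := fun Ω _ _ ξ => by
  obtain ⟨e⟩ := nonempty_stalk_constMod_iso ξ (ModuleCat.of Λ Λ)
  exact Module.Flat.of_linearEquiv e.toLinearEquiv

/-- A geometric point has finitely many lifts through a morphism factoring as a quasi-compact
etale morphism followed by a monomorphism. -/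
theorem finite_ptOver_of_fac {U A : Scheme.{u}} (j : U ⟶ X) (j' : U ⟶ A) (i : A ⟶ X) [Mono i]
    [AlgebraicGeometry.Etale j'] [QuasiCompact j'] (h : j' ≫ i = j)
    {Ω : Type u} [Field Ω] [IsSepClosed Ω] (ξ : Spec (CommRingCat.of Ω) ⟶ X) :
    Finite (PtOver j ξ) := by
  cases isEmpty_or_nonempty (PtOver j ξ) with
  | inl _ => infer_instance
  | inr hne =>
    obtain ⟨u₀⟩ := hne
    have := finite_ptOver j' (u₀.1 ≫ j')
    refine Finite.of_injective
      (fun u : PtOver j ξ => (⟨u.1, ?_⟩ : PtOver j' (u₀.1 ≫ j')))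
      fun a b e => Subtype.ext (Subtype.mk.injEq _ _ _ _ ▸ e)
    rw [← cancel_mono i, Category.assoc, Category.assoc, h, u.2, u₀.2]

/-- Sheaves `j_! Λ` have flat stalks. -/
theorem hasFlatStalks_extZero {U : Scheme.{u}} (j : U ⟶ X) [AlgebraicGeometry.Etale j] [EtShriek.JCont j]
    (hfin : ∀ (Ω : Type u) [Field Ω] [IsSepClosed Ω] (ξ : Spec (CommRingCat.of Ω) ⟶ X), Finite (PtOver j ξ)) :
    HasFlatStalks ((EtSix.extZeroMod Λ j).obj (EtSix.constΛ Λ U)) := fun Ω _ _ ξ => by
  classical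
  have := hfin Ω ξ
  let _ := Fintype.ofFinite (PtOver j ξ)
  have : ∀ v : PtOver j ξ, Module.Flat Λ ((EtModW.stalk Λ v.1).obj (EtSix.constΛ Λ U)) := fun v =>
    hasFlatStalks_constΛ Ω v.1
  exact Module.Flat.of_linearEquiv ((DirectSum.linearEquivFunOnFintype Λ (PtOver j ξ) _).trans
    (LinearEquiv.ofBijective _ (bijective_sumIncM j Λ ξ (EtSix.constΛ Λ U)))).symm

end const

end Groth.EtaleSGA5
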