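import Groth.Agent.EtaleSGA5.ImmersionPushMod

/-!
# Sheaves supported on a closed subscheme
-/

set_option autoImplicit false
set_option backward.isDefEq.respectTransparency.types false
set_option linter.style.haveILetI false

universe u

open CategoryTheory CategoryTheory.Limits AlgebraicGeometry Opposite

namespace Groth.EtaleSGA5.ImmPush

open Groth.EtaleBase Groth.EtaleDeep.Cons

variable {Z X U : Scheme.{u}} (i : Z ⟶ X) [IsClosedImmersion i] (j : U ⟶ X) [IsOpenImmersion j]
  (hZU : Set.range j = (Set.range i)ᶜ)

include hZU in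
/-- The sheaves coming from a closed subscheme are those vanishing on the open complement. -/
theorem isIso_unit_ab_iff (F : EtCoh.Ab X) :
    IsIso ((EtCoh.pullPushAdj i).unit.app F) ↔ IsZero ((EtCoh.pull j).obj F) := by
  have hcl : closure (Set.range i.base) = Set.range i.base := i.isClosedEmbedding.isClosed_range.closure_eq
  constructor
  · intro h
    refine IsZero.of_iso ?_ ((EtCoh.pull j).mapIso (asIso ((EtCoh.pullPushAdj i).unit.app F)))
    refine (IsZero.iff_id_eq_zero _).2 ?_
    have hz : IsIso (0 : (EtCoh.pull j).obj ((EtCoh.push i).obj ((EtCoh.pull i).obj F)) ⟶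
        (EtCoh.pull j).obj ((EtCoh.push i).obj ((EtCoh.pull i).obj F))) := by
      refine stalkAt_jointlyReflectIsomorphisms.isIso_iff _ |>.2 fun y => ?_
      have h0 : IsZero ((EtCoh.stalk (geomPoint y ≫ j)).obj ((EtCoh.push i).obj ((EtCoh.pull i).obj F))) := by
        refine isZero_stalk_push_ab i _ ?_ _
        rw [hcl, Scheme.Hom.comp_apply]
        exact hZU.le ⟨_, rfl⟩
      have := h0.of_iso ((stalkPullIso j (geomPoint y)).app _).symm
      exact isIso_of_source_target_iso_zero _ this.isoZero this.isoZero
    exact (cancel_epi (0 : (EtCoh.pull j).obj ((EtCoh.push i).obj ((EtCoh.pull i).obj F)) ⟶ (EtCoh.pull j).obj ((EtCoh.push i).obj ((EtCoh.pull i).obj F)))).1 (by simp)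
  · intro h
    refine stalkAt_jointlyReflectIsomorphisms.isIso_iff _ |>.2 fun x => ?_
    change IsIso ((EtCoh.stalk (geomPoint x)).map ((EtCoh.pullPushAdj i).unit.app F))
    by_cases hx : x ∈ Set.range i.base
    · obtain ⟨ξ', hξ'⟩ := exists_lift_immersion (geomPoint x) i (by rw [geomPoint_apply]; exact hx)
      rw [← hξ']
      have := isIso_counit_ab i ((EtCoh.pull i).obj F)
      have h1 : IsIso ((EtCoh.pull i).map ((EtCoh.pullPushAdj i).unit.app F)) := by
        have h2 := (EtCoh.pullPushAdj i).left_triangle_components F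
        have : IsIso ((EtCoh.pull i).map ((EtCoh.pullPushAdj i).unit.app F) ≫
            (EtCoh.pullPushAdj i).counit.app ((EtCoh.pull i).obj F)) := by rw [h2]; exact IsIso.id _
        exact IsIso.of_isIso_comp_right _ ((EtCoh.pullPushAdj i).counit.app ((EtCoh.pull i).obj F))
      exact (NatIso.isIso_map_iff (stalkPullIso i ξ') _).2
        (inferInstanceAs (IsIso ((EtCoh.stalk ξ').map ((EtCoh.pull i).map ((EtCoh.pullPushAdj i).unit.app F)))))
    · have ht : IsZero ((EtCoh.stalk (geomPoint x)).obj ((EtCoh.push i).obj ((EtCoh.pull i).obj F))) :=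
        isZero_stalk_push_ab i _ (by rw [hcl, geomPoint_apply]; exact hx) _
      obtain ⟨ξ', hξ'⟩ := exists_lift_immersion (geomPoint x) j (by rw [geomPoint_apply, hZU]; exact hx)
      have hs : IsZero ((EtCoh.stalk (geomPoint x)).obj F) := by
        rw [← hξ']
        exact ((EtCoh.stalk ξ').map_isZero h).of_iso ((stalkPullIso j ξ').app F)
      exact isIso_of_source_target_iso_zero _ hs.isoZero ht.isoZero

end Groth.EtaleSGA5.ImmPush
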