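import Groth.Agent.EtaleSGA5.EzCover
import Groth.Agent.DerivedCoh.KInj.Small
import Groth.Agent.DerivedCoh.Derived
import Groth.Agent.DAlg.SiteLTensorLeft
import Mathlib.Algebra.Homology.DerivedCategory.TStructure

/-!
# `⊗^L` of sheaves of modules by complexes with flat stalks
-/

set_option autoImplicit false
set_option backward.isDefEq.respectTransparency.types false
set_option linter.style.haveILetI false
set_option synthInstance.maxHeartbeats 200000

universe u

open CategoryTheory CategoryTheory.Limits AlgebraicGeometry Opposite HomologicalComplex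

attribute [local instance] HasDerivedCategory.standard

namespace Groth.EtaleSGA5

open Groth.DerivedCoh

variable {Λ : Type (u + 1)} [CommRing Λ] {X : Scheme.{u}}

local notation "up" => ComplexShape.up ℤ

instance hasColimitsOfShape_nat_mod : HasColimitsOfShape ℕ (EtModW.Mod Λ X) :=
  EtModD.hasColimitsOfSize0.has_colimits_of_shape ℕ

instance hasExactColimitsOfShape_nat_mod : HasExactColimitsOfShape ℕ (EtModW.Mod Λ X) :=
  Groth.DerivedCoh.KInjSmall.hasExactColimitsOfShape_nat

instance hasExactColimitsOfShape_discrete_mod (J : Type) :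
    HasExactColimitsOfShape (Discrete J) (EtModW.Mod Λ X) :=
  have := IsGrothendieckAbelian.hasColimits (EtModW.Mod Λ X)
  have : AB5OfSize.{u + 1, u + 1} (EtModW.Mod Λ X) := IsGrothendieckAbelian.ab5OfSize
  have : HasCoproducts.{u + 1} (EtModW.Mod Λ X) := fun _ => inferInstance
  have : HasFiniteBiproducts (EtModW.Mod Λ X) := HasFiniteBiproducts.of_hasFiniteProducts
  have : AB4OfSize.{u + 1} (EtModW.Mod Λ X) := AB4.of_AB5 _
  have : HasExactColimitsOfShape (Discrete (ULift.{u + 1} J)) (EtModW.Mod Λ X) := AB4OfSize.ofShape _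
  HasExactColimitsOfShape.of_domain_equivalence _ (Discrete.equivalence (Equiv.ulift.{u + 1} (α := J)))

variable (Λ X) in
/-- The functorial flat resolution. -/
noncomputable def flatRes : CochainComplex (EtModW.Mod Λ X) ℤ ⥤ CochainComplex (EtModW.Mod Λ X) ℤ :=
  (EzCover.cover Λ X).resol

variable (Λ X) in
/-- Its augmentation. -/
noncomputable def flatResAug : flatRes Λ X ⟶ 𝟭 _ := (EzCover.cover Λ X).resolAug

lemma quasiIso_flatResAug (K : CochainComplex (EtModW.Mod Λ X) ℤ) : QuasiIso ((flatResAug Λ X).app K) :=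
  ((EzCover.cover Λ X).resolAug_spec K).1

lemma isKFlat_flatRes (K : CochainComplex (EtModW.Mod Λ X) ℤ) :
    KFlat.IsKFlat (EtModD.tensorBi Λ X) ((flatRes Λ X).obj K) :=
  (EzCover.cover Λ X).isKFlat_resol (EtModD.tensorBi Λ X) HasFlatStalks
    (fun _ h => flat_of_hasFlatStalks h) EzCover.hasFlatStalks_cover
    (fun _ h => hasFlatStalks_of_isZero h) (fun e h => h.of_iso e) hasFlatStalks_sigma₀ K

lemma isKFlat_flip_flatRes (K : CochainComplex (EtModW.Mod Λ X) ℤ) :
    KFlat.IsKFlat (EtModD.tensorBi Λ X).flip ((flatRes Λ X).obj K) :=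
  (EzCover.cover Λ X).isKFlat_resol (EtModD.tensorBi Λ X).flip HasFlatStalks
    (fun _ h => flat_flip_of_hasFlatStalks h) EzCover.hasFlatStalks_cover
    (fun _ h => hasFlatStalks_of_isZero h) (fun e h => h.of_iso e) hasFlatStalks_sigma₀ K

/-- Bounded above complexes with flat stalks are K-flat. -/
lemma isKFlat_flip_of_hasFlatStalks (P : CochainComplex (EtModW.Mod Λ X) ℤ) (a : ℤ)
    (h0 : ∀ q, a < q → IsZero (P.X q)) (hP : ∀ q, HasFlatStalks (P.X q)) :
    KFlat.IsKFlat (EtModD.tensorBi Λ X).flip P :=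
  KFlat.isKFlat_of_flat _ P a h0 fun q => flat_flip_of_hasFlatStalks (hP q)

/-- Bounded above complexes with flat stalks are K-flat. -/
lemma isKFlat_of_hasFlatStalks (P : CochainComplex (EtModW.Mod Λ X) ℤ) (a : ℤ)
    (h0 : ∀ q, a < q → IsZero (P.X q)) (hP : ∀ q, HasFlatStalks (P.X q)) :
    KFlat.IsKFlat (EtModD.tensorBi Λ X) P :=
  KFlat.isKFlat_of_flat _ P a h0 fun q => flat_of_hasFlatStalks (hP q)

lemma quasiIso_totL_map (E : CochainComplex (EtModW.Mod Λ X) ℤ) {C C' : CochainComplex (EtModW.Mod Λ X) ℤ}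
    (hC : KFlat.IsKFlat (EtModD.tensorBi Λ X).flip C) (hC' : KFlat.IsKFlat (EtModD.tensorBi Λ X).flip C')
    (α : C ⟶ C') [QuasiIso α] : QuasiIso ((KFlat.totL (EtModD.tensorBi Λ X) E).map α) := by
  let π := (flatResAug Λ X).app E
  have : QuasiIso π := quasiIso_flatResAug E
  have h₁ : QuasiIso ((KFlat.totR (EtModD.tensorBi Λ X) C).map π) := KFlat.quasiIso_totR _ hC π
  have h₂ : QuasiIso ((KFlat.totR (EtModD.tensorBi Λ X) C').map π) := KFlat.quasiIso_totR _ hC' π
  have h₃ : QuasiIso ((KFlat.totL (EtModD.tensorBi Λ X) ((flatRes Λ X).obj E)).map α) :=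
    (isKFlat_flatRes E).quasiIso_totL α
  have e : (KFlat.totR (EtModD.tensorBi Λ X) C).map π ≫ (KFlat.totL (EtModD.tensorBi Λ X) E).map α =
      (KFlat.totL (EtModD.tensorBi Λ X) ((flatRes Λ X).obj E)).map α ≫
        (KFlat.totR (EtModD.tensorBi Λ X) C').map π :=
    ((EtModD.tensorBi Λ X).map₂CochainComplex.map α).naturality π
  have : QuasiIso ((KFlat.totR (EtModD.tensorBi Λ X) C).map π ≫
      (KFlat.totL (EtModD.tensorBi Λ X) E).map α) := e ▸ inferInstance
  exact quasiIso_of_comp_left ((KFlat.totR (EtModD.tensorBi Λ X) C).map π) _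

lemma isIso_tensorCxQ_map (E : CochainComplex (EtModW.Mod Λ X) ℤ) {C C' : CochainComplex (EtModW.Mod Λ X) ℤ}
    (hC : KFlat.IsKFlat (EtModD.tensorBi Λ X).flip C) (hC' : KFlat.IsKFlat (EtModD.tensorBi Λ X).flip C')
    (α : C ⟶ C') [QuasiIso α] : IsIso ((EtModD.tensorCxQ E).map α) :=
  (DerivedCategory.isIso_Q_map_iff_quasiIso _ _).2 (quasiIso_totL_map E hC hC' α)

/-- `- ⊗^L E` exists. -/
theorem hasLTensorCx (E : CochainComplex (EtModW.Mod Λ X) ℤ) : EtModD.HasLTensorCx E := by
  obtain ⟨LF, α, hα, -⟩ := exists_isRightKanExtension_of_resolution DerivedCategory.Q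
    (HomologicalComplex.quasiIso (EtModW.Mod Λ X) up) (EtModD.tensorCxQ E) (flatRes Λ X) (flatResAug Λ X)
    (fun C => (HomologicalComplex.mem_quasiIso_iff _).2 (quasiIso_flatResAug C))
    (fun C C' w hw => by
      have : QuasiIso w := (HomologicalComplex.mem_quasiIso_iff w).1 hw
      have := quasiIso_flatResAug C
      have := quasiIso_flatResAug C'
      have : QuasiIso ((flatRes Λ X).map w ≫ (flatResAug Λ X).app C') := by
        rw [(flatResAug Λ X).naturality w]
        change QuasiIso ((flatResAug Λ X).app C ≫ w)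
        infer_instance
      have : QuasiIso ((flatRes Λ X).map w) := quasiIso_of_comp_right _ ((flatResAug Λ X).app C')
      exact isIso_tensorCxQ_map E (isKFlat_flip_flatRes C) (isKFlat_flip_flatRes C') _)
    (fun C => by
      have := quasiIso_flatResAug ((flatRes Λ X).obj C)
      exact isIso_tensorCxQ_map E (isKFlat_flip_flatRes _) (isKFlat_flip_flatRes C) _)
  exact (Functor.hasLeftDerivedFunctor_iff (EtModD.tensorCxQ E) DerivedCategory.Q
    (HomologicalComplex.quasiIso (EtModW.Mod Λ X) up)).2 (Functor.HasRightKanExtension.mk LF α)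

/-- `- ⊗^L E` is computed by complexes K-flat on the left. -/
theorem isIso_lTensorCounit (E : CochainComplex (EtModW.Mod Λ X) ℤ) [EtModD.HasLTensorCx E]
    (C : CochainComplex (EtModW.Mod Λ X) ℤ) (hC : KFlat.IsKFlat (EtModD.tensorBi Λ X).flip C) :
    IsIso (((EtModD.tensorCxQ E).totalLeftDerivedCounit DerivedCategory.Q
      (HomologicalComplex.quasiIso (EtModW.Mod Λ X) up)).app C) := by
  refine Groth.DAlg.isIso_counit_of_resolution (HomologicalComplex.quasiIso (EtModW.Mod Λ X) up)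
    (EtModD.LTensorCx E) _ (flatRes Λ X) (flatResAug Λ X)
    (fun C => (HomologicalComplex.mem_quasiIso_iff _).2 (quasiIso_flatResAug C)) (fun C C' w hw => ?_) C ?_
  · have : QuasiIso w := (HomologicalComplex.mem_quasiIso_iff w).1 hw
    have := quasiIso_flatResAug C
    have := quasiIso_flatResAug C'
    have : QuasiIso ((flatRes Λ X).map w ≫ (flatResAug Λ X).app C') := by
      rw [(flatResAug Λ X).naturality w]
      change QuasiIso ((flatResAug Λ X).app C ≫ w)
      infer_instance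
    have : QuasiIso ((flatRes Λ X).map w) := quasiIso_of_comp_right _ ((flatResAug Λ X).app C')
    exact isIso_tensorCxQ_map E (isKFlat_flip_flatRes C) (isKFlat_flip_flatRes C') _
  · have := quasiIso_flatResAug C
    exact isIso_tensorCxQ_map E (isKFlat_flip_flatRes C) hC _

/-- Bounded above objects are represented by bounded above complexes with flat stalks. -/
theorem exists_flat_rep (K : EtModD.D Λ X) (a : ℤ) [K.IsLE a] :
    ∃ P : CochainComplex (EtModW.Mod Λ X) ℤ, (∀ q, a < q → IsZero (P.X q)) ∧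
      (∀ q, HasFlatStalks (P.X q)) ∧ Nonempty (DerivedCategory.Q.obj P ≅ K) := by
  obtain ⟨C, hC, ⟨e⟩⟩ := K.exists_iso_Q_obj_of_isLE a
  have h0 : ∀ p, a < p → IsZero (C.X p) := fun p hp => C.isZero_of_isStrictlyLE a p hp
  let V := EzCover.cover Λ X
  have := V.quasiIso_resAug C a h0
  refine ⟨V.res.obj C, V.res_X_zero C a h0, fun q => ?_,
    ⟨asIso (DerivedCategory.Q.map (V.resAug.app C)) ≪≫ e.symm⟩⟩
  exact V.res_X_prop HasFlatStalks EzCover.hasFlatStalks_cover (fun _ h => hasFlatStalks_of_isZero h)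
    (fun e h => h.of_iso e) hasFlatStalks_sigma₀ C q

lemma isZero_tot_X (P E : CochainComplex (EtModW.Mod Λ X) ℤ) (a b : ℤ) (hP : ∀ q, a < q → IsZero (P.X q))
    (hE : ∀ q, b < q → IsZero (E.X q)) (n : ℤ) (hn : a + b < n) :
    IsZero ((KFlat.tot (EtModD.tensorBi Λ X) P E).X n) := by
  rw [IsZero.iff_id_eq_zero]
  refine HomologicalComplex.mapBifunctor.hom_ext fun p q h => ?_
  refine IsZero.eq_of_src ?_ _ _
  simp at h
  rcases le_or_gt p a with hp | hp
  · exact ((EtModD.tensorBi Λ X).obj (P.X p)).map_isZero (hE q (by omega))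
  · exact ((EtModD.tensorBi Λ X).flip.obj (E.X q)).map_isZero (hP p hp)

/-- `K ⊗^L E` is the total complex of bounded above complexes with flat stalks on the left. -/
theorem exists_lTensorCx_iso (E : CochainComplex (EtModW.Mod Λ X) ℤ) [EtModD.HasLTensorCx E]
    (K : EtModD.D Λ X) (a b : ℤ) [K.IsLE a] [(DerivedCategory.Q.obj E).IsLE b] :
    ∃ P E' : CochainComplex (EtModW.Mod Λ X) ℤ, (∀ q, a < q → IsZero (P.X q)) ∧
      (∀ q, HasFlatStalks (P.X q)) ∧ Nonempty (DerivedCategory.Q.obj P ≅ K) ∧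
      (∀ q, b < q → IsZero (E'.X q)) ∧ Nonempty (DerivedCategory.Q.obj E' ≅ DerivedCategory.Q.obj E) ∧
      Nonempty ((EtModD.LTensorCx E).obj K ≅
        DerivedCategory.Q.obj (KFlat.tot (EtModD.tensorBi Λ X) P E')) := by
  obtain ⟨P, hP0, hP, ⟨e⟩⟩ := exists_flat_rep K a
  have hPf := isKFlat_flip_of_hasFlatStalks P a hP0 hP
  have := isIso_lTensorCounit E P hPf
  have : E.IsLE b := (DerivedCategory.isLE_Q_obj_iff E b).1 inferInstance
  have : QuasiIso (E.ιTruncLE b) := (E.quasiIso_ιTruncLE_iff b).2 inferInstance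
  have hq : QuasiIso ((KFlat.totR (EtModD.tensorBi Λ X) P).map (E.ιTruncLE b)) :=
    KFlat.quasiIso_totR _ hPf _
  have := (DerivedCategory.isIso_Q_map_iff_quasiIso _ _).2 hq
  exact ⟨P, E.truncLE b, hP0, hP, ⟨e⟩, fun q hq => (E.truncLE b).isZero_of_isStrictlyLE b q hq,
    ⟨asIso (DerivedCategory.Q.map (E.ιTruncLE b))⟩,
    ⟨((EtModD.LTensorCx E).mapIso e).symm ≪≫
      asIso (((EtModD.tensorCxQ E).totalLeftDerivedCounit DerivedCategory.Q
        (HomologicalComplex.quasiIso (EtModW.Mod Λ X) up)).app P) ≪≫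
      (asIso (DerivedCategory.Q.map ((KFlat.totR (EtModD.tensorBi Λ X) P).map (E.ιTruncLE b)))).symm⟩⟩

/-- `K ⊗^L E` is bounded above. -/
theorem isLE_lTensorCx (E : CochainComplex (EtModW.Mod Λ X) ℤ) [EtModD.HasLTensorCx E]
    (K : EtModD.D Λ X) (a b : ℤ) [K.IsLE a] [(DerivedCategory.Q.obj E).IsLE b] :
    ((EtModD.LTensorCx E).obj K).IsLE (a + b) := by
  obtain ⟨P, E', hP0, -, -, hE0, -, ⟨e⟩⟩ := exists_lTensorCx_iso E K a b
  have : (KFlat.tot (EtModD.tensorBi Λ X) P E').IsStrictlyLE (a + b) :=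
    (CochainComplex.isStrictlyLE_iff _ _).2 fun n hn => isZero_tot_X P E' a b hP0 hE0 n hn
  exact DerivedCategory.TStructure.t.isLE_of_iso e.symm (a + b)

end Groth.EtaleSGA5
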