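import Mathlib.GroupTheory.FiniteAbelian.Duality
import Mathlib.Data.ZMod.Basic
import Mathlib.LinearAlgebra.Dual.Defs

/-!
# Duality of finite modules over `ℤ/n`
-/

set_option autoImplicit false
set_option linter.style.haveILetI false
set_option linter.unusedSectionVars false

universe v w

namespace Groth.EtaleSGA5.ZModDual

variable {n : ℕ} {Λ : Type v} [CommRing Λ] (hΛ : ∀ a : Λ, ∃ k : ℕ, (k : Λ) = a)

/-- Additive maps are linear. -/
def toLin {M N : Type*} [AddCommGroup M] [AddCommGroup N] [Module Λ M] [Module Λ N] (f : M →+ N) :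
    M →ₗ[Λ] N where
  toFun := f
  map_add' := map_add f
  map_smul' a m := by
    obtain ⟨k, rfl⟩ := hΛ a
    simp only [Nat.cast_smul_eq_nsmul, map_nsmul, RingHom.id_apply]

@[simp] lemma toLin_apply {M N : Type*} [AddCommGroup M] [AddCommGroup N] [Module Λ M] [Module Λ N] (f : M →+ N)
    (m : M) : toLin hΛ f m = f m := rfl

instance hasEnough_zmod [NeZero n] : HasEnoughRootsOfUnity (Multiplicative (ZMod n)) n where
  prim := ⟨Multiplicative.ofAdd 1, IsPrimitiveRoot.iff_orderOf.2 (by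
    rw [orderOf_ofAdd_eq_addOrderOf, ZMod.addOrderOf_one])⟩
  cyc := by
    haveI : IsCyclic (Multiplicative (ZMod n))ˣ := isCyclic_of_surjective toUnits (MulEquiv.surjective _)
    infer_instance

variable (hk : ∀ k : ℕ, (k : Λ) = 0 ↔ n ∣ k) (M : Type w) [AddCommGroup M] [Module Λ M]

include hΛ hk

/-- The coefficient ring is `ℤ/n`. -/
noncomputable def equivZMod : ZMod n ≃+* Λ :=
  haveI : CharP Λ n := ⟨hk⟩
  RingEquiv.ofBijective (ZMod.castHom dvd_rfl Λ) ⟨ZMod.castHom_injective Λ, fun a => by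
    obtain ⟨k, rfl⟩ := hΛ a
    exact ⟨k, map_natCast _ k⟩⟩

/-- Duals as character groups. -/
noncomputable def dualEquiv : (M →ₗ[Λ] Λ) ≃ (Multiplicative M →* (Multiplicative (ZMod n))ˣ) where
  toFun f := toUnits.toMonoidHom.comp
    (AddMonoidHom.toMultiplicative ((equivZMod hΛ hk).symm.toAddMonoidHom.comp f.toAddMonoidHom))
  invFun χ := toLin hΛ ((equivZMod hΛ hk).toAddMonoidHom.comp
    (AddMonoidHom.toMultiplicative.symm (toUnits.symm.toMonoidHom.comp χ)))
  left_inv f := by ext m; simp [toLin]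
  right_inv χ := by ext m; simp [toLin]

variable [NeZero n] [Finite M]

lemma hasEnough_exponent : HasEnoughRootsOfUnity (Multiplicative (ZMod n)) (Monoid.exponent (Multiplicative M)) := by
  refine HasEnoughRootsOfUnity.of_dvd _ (n := n) (Monoid.exponent_dvd_of_forall_pow_eq_one fun g => ?_)
  refine Multiplicative.toAdd.injective ?_
  show n • g.toAdd = 0
  rw [← Nat.cast_smul_eq_nsmul Λ, (hk n).2 dvd_rfl, zero_smul]

theorem finite_dual : Finite (M →ₗ[Λ] Λ) :=
  haveI : Finite Λ := Finite.of_equiv _ (equivZMod hΛ hk).toEquiv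
  Finite.of_injective (fun f => (f : M → Λ)) DFunLike.coe_injective

theorem natCard_dual : Nat.card (M →ₗ[Λ] Λ) = Nat.card M := by
  haveI := hasEnough_exponent hΛ hk M
  rw [Nat.card_congr (dualEquiv hΛ hk M), CommGroup.card_monoidHom_of_hasEnoughRootsOfUnity]
  exact Nat.card_congr Multiplicative.toAdd

theorem exists_dual_ne_zero {m : M} (hm : m ≠ 0) : ∃ f : M →ₗ[Λ] Λ, f m ≠ 0 := by
  haveI := hasEnough_exponent hΛ hk M
  obtain ⟨χ, hχ⟩ := CommGroup.exists_apply_ne_one_of_hasEnoughRootsOfUnity (Multiplicative M)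
    (Multiplicative (ZMod n)) (a := Multiplicative.ofAdd m) (by simpa using hm)
  refine ⟨(dualEquiv hΛ hk M).symm χ, fun h => hχ ?_⟩
  have h' : toUnits.symm (χ (Multiplicative.ofAdd m)) = 1 := by
    have h0 := congrArg (equivZMod hΛ hk).symm h
    simpa [dualEquiv, toLin] using h0
  simpa using congrArg toUnits h'

theorem bijective_eval : Function.Bijective (Module.Dual.eval Λ M) := by
  haveI := finite_dual hΛ hk M
  haveI := finite_dual hΛ hk (M →ₗ[Λ] Λ)
  refine (Nat.bijective_iff_injective_and_card _).2 ⟨(injective_iff_map_eq_zero _).2 fun m hm => ?_, ?_⟩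
  · by_contra h
    obtain ⟨f, hf⟩ := exists_dual_ne_zero hΛ hk M h
    exact hf (LinearMap.congr_fun hm f)
  · rw [natCard_dual hΛ hk (M →ₗ[Λ] Λ), natCard_dual hΛ hk M]

/-- Biduality for a pairing. -/
theorem bijective_flip {H : Type*} [AddCommGroup H] [Module Λ H] (p : H →ₗ[Λ] M →ₗ[Λ] Λ)
    (hp : Function.Bijective p) : Function.Bijective p.flip := by
  have e : ⇑p.flip = (fun f : (M →ₗ[Λ] Λ) →ₗ[Λ] Λ => f ∘ₗ p) ∘ Module.Dual.eval Λ M := by
    funext m; ext h; rfl
  rw [e]
  refine Function.Bijective.comp ?_ (bijective_eval hΛ hk M)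
  exact (LinearEquiv.congrLeft Λ Λ (LinearEquiv.ofBijective p hp).symm).bijective

end Groth.EtaleSGA5.ZModDual
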