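import Mathlib.Algebra.Homology.DerivedCategory.HomologySequence
import Mathlib.Algebra.Homology.SingleHomology

/-!
# Morphisms from single objects into complexes in the derived category
-/

set_option autoImplicit false
set_option backward.isDefEq.respectTransparency.types false

universe w v u

open CategoryTheory CategoryTheory.Limits

namespace Groth.EtaleSGA5

variable {A : Type u} [Category.{v} A] [Abelian A] [HasDerivedCategory.{w} A]

/-- A map to cycles which is epi onto homology gives a morphism from a single object which is epi on homology. -/
theorem exists_single_hom_epi (C : CochainComplex A ℤ) {K : DerivedCategory A}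
    (e : DerivedCategory.Q.obj C ≅ K) (b : ℤ) {F : A} (ψ : F ⟶ C.cycles b)
    [Epi (ψ ≫ C.homologyπ b)] :
    ∃ φ : (DerivedCategory.singleFunctor A b).obj F ⟶ K,
      Epi ((DerivedCategory.homologyFunctor A b).map φ) := by
  let S : CochainComplex A ℤ := (HomologicalComplex.single A (ComplexShape.up ℤ) b).obj F
  let f : (HomologicalComplex.single A (ComplexShape.up ℤ) b).obj F ⟶ C := HomologicalComplex.mkHomFromSingle (ψ ≫ C.iCycles b) (fun k _ => by simp)
  refine ⟨((DerivedCategory.singleFunctorIsoCompQ A b).app F).hom ≫ DerivedCategory.Q.map f ≫ e.hom, ?_⟩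
  have key : (HomologicalComplex.singleObjCyclesSelfIso (ComplexShape.up ℤ) b F).inv ≫
      HomologicalComplex.cyclesMap f b = ψ := by
    rw [← cancel_mono (C.iCycles b), Category.assoc, HomologicalComplex.cyclesMap_i]
    erw [HomologicalComplex.singleObjCyclesSelfIso_inv_iCycles_assoc]
    rw [HomologicalComplex.mkHomFromSingle_f]
    erw [Iso.inv_hom_id_assoc]
  have h1 : Epi (HomologicalComplex.homologyMap f b) := by
    have : Epi (((HomologicalComplex.singleObjCyclesSelfIso (ComplexShape.up ℤ) b F).inv ≫
        HomologicalComplex.homologyπ S b) ≫ HomologicalComplex.homologyMap f b) := by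
      erw [Category.assoc, HomologicalComplex.homologyπ_naturality, ← Category.assoc, key]
      infer_instance
    exact epi_of_epi ((HomologicalComplex.singleObjCyclesSelfIso (ComplexShape.up ℤ) b F).inv ≫
        HomologicalComplex.homologyπ S b) _
  have h2 : Epi ((DerivedCategory.homologyFunctor A b).map (DerivedCategory.Q.map f)) :=
    ((MorphismProperty.epimorphisms A).arrow_mk_iso_iff
      ((Functor.mapArrowFunctor _ _).mapIso (DerivedCategory.homologyFunctorFactors A b)
        |>.app (Arrow.mk f))).2 h1
  rw [Functor.map_comp, Functor.map_comp]
  exact epi_comp' inferInstance (epi_comp' h2 inferInstance)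

end Groth.EtaleSGA5
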